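import Mathlib
import Groth.Prelude.Def_Cyc
import Groth.Agent.CycC1Lib.Cap

/-!
# Operations on rational equivalences
-/

set_option autoImplicit false
set_option linter.style.haveILetI false
set_option linter.unusedSectionVars false

universe u

open AlgebraicGeometry CategoryTheory

noncomputable section

namespace CycCommLib

variable {X : Scheme.{u}} {δ : X → ℤ} {k : ℤ}

theorem divFun_finite_index (hX : Cyc.IsSetup X δ) {ι : Type u} (ξ : ι → X) (f : (i : ι) → X.residueField (ξ i))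
    (hloc : ∀ x : X, ∃ U : Set X, IsOpen U ∧ x ∈ U ∧ {i | (closure {ξ i} ∩ U).Nonempty}.Finite) (x : X) :
    (Function.support fun i => Cyc.divFun δ (ξ i) (f i) x).Finite := by
  obtain ⟨U, hU, hxU, hfin⟩ := hloc x
  refine hfin.subset fun i hi => ⟨x, ?_, hxU⟩
  by_contra hn
  exact hi (CycC1Lib.divFun_eq_zero_of_not_specializes (fun h => hn (specializes_iff_mem_closure.1 h)) _)

theorem ratEquivZero_of_forall_eq_zero {α : AlgebraicCycle X ℤ} (h : ∀ x, α x = 0) :
    Cyc.RatEquivZero δ k α :=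
  ⟨PEmpty, fun e => e.elim, fun e => e.elim, fun e => e.elim, fun e => e.elim,
    fun x => ⟨Set.univ, isOpen_univ, trivial, Set.toFinite _⟩, fun x => by rw [h, finsum_of_isEmpty]⟩

theorem ratEquivZero_add (hX : Cyc.IsSetup X δ) {α β γ : AlgebraicCycle X ℤ} (hα : Cyc.RatEquivZero δ k α)
    (hβ : Cyc.RatEquivZero δ k β) (h : ∀ x, γ x = α x + β x) : Cyc.RatEquivZero δ k γ := by
  obtain ⟨I, ξ, f, hd, hf, hloc, hsum⟩ := hα
  obtain ⟨I', ξ', f', hd', hf', hloc', hsum'⟩ := hβ
  let Ξ : I ⊕ I' → X := Sum.elim ξ ξ'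
  let F : (i : I ⊕ I') → X.residueField (Ξ i) := fun i =>
    match i with
    | .inl i => f i
    | .inr i => f' i
  have hlocS : ∀ x : X, ∃ U : Set X, IsOpen U ∧ x ∈ U ∧ {i | (closure {Ξ i} ∩ U).Nonempty}.Finite := by
    intro x
    obtain ⟨U, hU, hxU, hfin⟩ := hloc x
    obtain ⟨U', hU', hxU', hfin'⟩ := hloc' x
    refine ⟨U ∩ U', hU.inter hU', ⟨hxU, hxU'⟩, ((hfin.image Sum.inl).union (hfin'.image Sum.inr)).subset ?_⟩
    rintro (i | i) hi
    · exact Or.inl ⟨i, hi.mono (Set.inter_subset_inter_right _ Set.inter_subset_left), rfl⟩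
    · exact Or.inr ⟨i, hi.mono (Set.inter_subset_inter_right _ Set.inter_subset_right), rfl⟩
  refine ⟨I ⊕ I', Ξ, F, fun i => ?_, fun i => ?_, hlocS, fun x => ?_⟩
  · cases i with
    | inl i => exact hd i
    | inr i => exact hd' i
  · cases i with
    | inl i => exact hf i
    | inr i => exact hf' i
  · let G : I ⊕ I' → ℤ := fun i => Cyc.divFun δ (Ξ i) (F i) x
    have hG : (Function.support G).Finite := divFun_finite_index hX Ξ F hlocS x
    rw [h, hsum, hsum']
    show _ = ∑ᶠ i, G i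
    rw [← finsum_mem_univ G, ← Set.range_inl_union_range_inr,
      finsum_mem_union' (Set.isCompl_range_inl_range_inr.disjoint) (hG.inter_of_right _) (hG.inter_of_right _),
      finsum_mem_range Sum.inl_injective, finsum_mem_range Sum.inr_injective]
    rfl

theorem ratEquivZero_neg (hX : Cyc.IsSetup X δ) {α γ : AlgebraicCycle X ℤ} (hα : Cyc.RatEquivZero δ k α)
    (h : ∀ x, γ x = -α x) : Cyc.RatEquivZero δ k γ := by
  obtain ⟨I, ξ, f, hd, hf, hloc, hsum⟩ := hα
  refine ⟨I, ξ, fun i => (f i)⁻¹, hd, fun i => inv_ne_zero (hf i), hloc, fun x => ?_⟩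
  rw [h, hsum, ← finsum_neg_distrib]
  exact finsum_congr fun i => (CycC1Lib.divFun_inv hX (hf i) x).symm

theorem ratEquiv_refl (α : AlgebraicCycle X ℤ) : Cyc.RatEquiv δ k α α :=
  ratEquivZero_of_forall_eq_zero fun x => sub_self (α x)

theorem ratEquiv_symm (hX : Cyc.IsSetup X δ) {α β : AlgebraicCycle X ℤ} (h : Cyc.RatEquiv δ k α β) :
    Cyc.RatEquiv δ k β α :=
  ratEquivZero_neg hX h fun x => (neg_sub (α x) (β x)).symm

theorem ratEquiv_trans (hX : Cyc.IsSetup X δ) {α β γ : AlgebraicCycle X ℤ} (h : Cyc.RatEquiv δ k α β)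
    (h' : Cyc.RatEquiv δ k β γ) : Cyc.RatEquiv δ k α γ :=
  ratEquivZero_add hX h h' fun x => (sub_add_sub_cancel (α x) (β x) (γ x)).symm

end CycCommLib

end
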