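import Mathlib
import Groth.Prelude.Def_Tame
import Groth.Agent.TameLib.Main
import Groth.Agent.TameLib.NormCompat
import Groth.Agent.TameLib.OrdFrac

/-!
# The tame symbol of two elements of the fraction field
-/

set_option autoImplicit false
set_option linter.style.haveILetI false
set_option linter.unusedSectionVars false

universe u

open IsLocalRing

noncomputable section

namespace CycCommLib

variable (A : Type u) [CommRing A] [IsDomain A] [IsNoetherianRing A] [IsLocalRing A] [Ring.KrullDimLE 1 A]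
  (K : Type u) [Field K] [Algebra A K] [IsFractionRing A K]

local notation "τ" => CycAlg.tameSymbol A

/-- The numerator of a fraction. -/
def num (z : K) : A := (IsFractionRing.div_surjective (A := A) z).choose

/-- The denominator of a fraction. -/
def den (z : K) : A := (IsFractionRing.div_surjective (A := A) z).choose_spec.choose

theorem den_ne_zero (z : K) : den A K z ≠ 0 :=
  nonZeroDivisors.ne_zero (IsFractionRing.div_surjective (A := A) z).choose_spec.choose_spec.1

theorem num_div_den (z : K) : algebraMap A K (num A K z) / algebraMap A K (den A K z) = z :=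
  (IsFractionRing.div_surjective (A := A) z).choose_spec.choose_spec.2

theorem num_ne_zero {z : K} (hz : z ≠ 0) : num A K z ≠ 0 := fun h => hz (by
  rw [← num_div_den A K z, h, map_zero, zero_div])

/-- The tame symbol of two elements of the fraction field. -/
def tame (z w : K) : ResidueField A :=
  τ (num A K z) (num A K w) * τ (den A K z) (den A K w) /
    (τ (num A K z) (den A K w) * τ (den A K z) (num A K w))

variable {A K}

theorem nz {a : A} (ha : a ≠ 0) : a ∈ nonZeroDivisors A := mem_nonZeroDivisors_of_ne_zero ha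

theorem tau_ne_zero {a b : A} (ha : a ≠ 0) (hb : b ≠ 0) : τ a b ≠ 0 :=
  TameLib.tameSymbol_ne_zero a b (nz ha) (nz hb)

theorem map_ne_zero' {a : A} (ha : a ≠ 0) : algebraMap A K a ≠ 0 := fun h =>
  ha (IsFractionRing.injective A K (h.trans (map_zero _).symm))

theorem quot_left_eq {a b a' b' c : A} (ha : a ≠ 0) (hb : b ≠ 0) (ha' : a' ≠ 0) (hb' : b' ≠ 0) (hc : c ≠ 0)
    (h : a * b' = a' * b) : τ a c / τ b c = τ a' c / τ b' c := by
  rw [div_eq_div_iff (tau_ne_zero hb hc) (tau_ne_zero hb' hc),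
    ← TameLib.tameSymbol_mul_left a b' c (nz ha) (nz hb') (nz hc),
    ← TameLib.tameSymbol_mul_left a' b c (nz ha') (nz hb) (nz hc), h]

theorem quot_right_eq {a c d c' d' : A} (ha : a ≠ 0) (hc : c ≠ 0) (hd : d ≠ 0) (hc' : c' ≠ 0) (hd' : d' ≠ 0)
    (h : c * d' = c' * d) : τ a c / τ a d = τ a c' / τ a d' := by
  rw [div_eq_div_iff (tau_ne_zero ha hd) (tau_ne_zero ha hd'),
    ← TameLib.tameSymbol_mul_right a c d' (nz ha) (nz hc) (nz hd'),
    ← TameLib.tameSymbol_mul_right a c' d (nz ha) (nz hc') (nz hd), h]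

theorem tame_eq {z w : K} {a b c d : A} (ha : a ≠ 0) (hb : b ≠ 0) (hc : c ≠ 0) (hd : d ≠ 0)
    (hz : z = algebraMap A K a / algebraMap A K b) (hw : w = algebraMap A K c / algebraMap A K d) :
    tame A K z w = τ a c * τ b d / (τ a d * τ b c) := by
  have hz0 : z ≠ 0 := hz ▸ div_ne_zero (map_ne_zero' ha) (map_ne_zero' hb)
  have hw0 : w ≠ 0 := hw ▸ div_ne_zero (map_ne_zero' hc) (map_ne_zero' hd)
  have hn := num_ne_zero A K hz0
  have hn' := num_ne_zero A K hw0
  have hd0 := den_ne_zero A K z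
  have hd0' := den_ne_zero A K w
  have e1 : num A K z * b = a * den A K z := by
    refine IsFractionRing.injective A K ?_
    rw [map_mul, map_mul, ← div_eq_div_iff (map_ne_zero' hd0) (map_ne_zero' hb), num_div_den, hz]
  have e2 : num A K w * d = c * den A K w := by
    refine IsFractionRing.injective A K ?_
    rw [map_mul, map_mul, ← div_eq_div_iff (map_ne_zero' hd0') (map_ne_zero' hd), num_div_den, hw]
  have key : ∀ p q r s : A, p ≠ 0 → q ≠ 0 → r ≠ 0 → s ≠ 0 →
      τ p r * τ q s / (τ p s * τ q r) = (τ p r / τ q r) / (τ p s / τ q s) := by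
    intro p q r s hp hq hr hs
    have := tau_ne_zero hp hs
    have := tau_ne_zero hq hs
    have := tau_ne_zero hq hr
    field_simp
  unfold tame
  rw [key _ _ _ _ hn hd0 hn' hd0', key _ _ _ _ ha hb hc hd, quot_left_eq hn hd0 ha hb hn' e1,
    quot_left_eq hn hd0 ha hb hd0' e1]
  have key' : ∀ p q r s : A, p ≠ 0 → q ≠ 0 → r ≠ 0 → s ≠ 0 →
      (τ p r / τ q r) / (τ p s / τ q s) = (τ p r / τ p s) / (τ q r / τ q s) := fun p q r s _ _ _ _ =>
    div_div_div_comm _ _ _ _
  rw [key' _ _ _ _ ha hb hn' hd0', key' _ _ _ _ ha hb hc hd, quot_right_eq ha hn' hd0' hc hd e2,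
    quot_right_eq hb hn' hd0' hc hd e2]

theorem tame_ne_zero {z w : K} (hz : z ≠ 0) (hw : w ≠ 0) : tame A K z w ≠ 0 :=
  div_ne_zero (mul_ne_zero (tau_ne_zero (num_ne_zero A K hz) (num_ne_zero A K hw))
    (tau_ne_zero (den_ne_zero A K z) (den_ne_zero A K w)))
    (mul_ne_zero (tau_ne_zero (num_ne_zero A K hz) (den_ne_zero A K w))
      (tau_ne_zero (den_ne_zero A K z) (num_ne_zero A K hw)))

theorem tame_algebraMap {a c : A} (ha : a ≠ 0) (hc : c ≠ 0) :
    tame A K (algebraMap A K a) (algebraMap A K c) = τ a c := by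
  rw [tame_eq ha one_ne_zero hc one_ne_zero (by rw [map_one, div_one]) (by rw [map_one, div_one])]
  have h1 : ∀ b : A, b ≠ 0 → τ (1 : A) b = 1 := fun b hb => by
    have := TameLib.tameSymbol_unit (1 : Aˣ) b (nz hb)
    simpa using this
  have h2 : τ a (1 : A) = 1 := by
    have := TameLib.tameSymbol_unit_right a (1 : Aˣ) (nz ha)
    simpa using this
  rw [h1 _ one_ne_zero, h1 _ hc, h2, mul_one, mul_one, div_one]

theorem tame_mul_left {z z' w : K} (hz : z ≠ 0) (hz' : z' ≠ 0) (hw : w ≠ 0) :
    tame A K (z * z') w = tame A K z w * tame A K z' w := by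
  have n1 := num_ne_zero A K hz
  have n2 := num_ne_zero A K hz'
  have n3 := num_ne_zero A K hw
  have d1 := den_ne_zero A K z
  have d2 := den_ne_zero A K z'
  have d3 := den_ne_zero A K w
  rw [tame_eq (z := z * z') (w := w) (mul_ne_zero n1 n2) (mul_ne_zero d1 d2) n3 d3
    (by rw [map_mul, map_mul, ← div_mul_div_comm, num_div_den, num_div_den]) (num_div_den A K w).symm]
  unfold tame
  rw [TameLib.tameSymbol_mul_left _ _ _ (nz n1) (nz n2) (nz n3), TameLib.tameSymbol_mul_left _ _ _ (nz d1) (nz d2) (nz d3),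
    TameLib.tameSymbol_mul_left _ _ _ (nz n1) (nz n2) (nz d3), TameLib.tameSymbol_mul_left _ _ _ (nz d1) (nz d2) (nz n3)]
  rw [div_mul_div_comm]
  congr 1 <;> ring

theorem tame_mul_right {z w w' : K} (hz : z ≠ 0) (hw : w ≠ 0) (hw' : w' ≠ 0) :
    tame A K z (w * w') = tame A K z w * tame A K z w' := by
  have n1 := num_ne_zero A K hz
  have n2 := num_ne_zero A K hw
  have n3 := num_ne_zero A K hw'
  have d1 := den_ne_zero A K z
  have d2 := den_ne_zero A K w
  have d3 := den_ne_zero A K w'
  rw [tame_eq (z := z) (w := w * w') n1 d1 (mul_ne_zero n2 n3) (mul_ne_zero d2 d3)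
    (num_div_den A K z).symm (by rw [map_mul, map_mul, ← div_mul_div_comm, num_div_den, num_div_den])]
  unfold tame
  rw [TameLib.tameSymbol_mul_right _ _ _ (nz n1) (nz n2) (nz n3), TameLib.tameSymbol_mul_right _ _ _ (nz d1) (nz d2) (nz d3),
    TameLib.tameSymbol_mul_right _ _ _ (nz n1) (nz d2) (nz d3), TameLib.tameSymbol_mul_right _ _ _ (nz d1) (nz n2) (nz n3)]
  rw [div_mul_div_comm]
  congr 1 <;> ring

theorem length_quot_eq_ordFrac {b : A} (hb : b ≠ 0) :
    ((Module.length A (A ⧸ Ideal.span {b})).toNat : ℤ) = CycAlg.ordFrac A K (algebraMap A K b) :=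
  (TameLib.ordFrac_algebraMap hb).symm

theorem tame_unit_left (u : Aˣ) {w : K} (hw : w ≠ 0) :
    tame A K (algebraMap A K u) w = residue A (u : A) ^ CycAlg.ordFrac A K w := by
  have n3 := num_ne_zero A K hw
  have d3 := den_ne_zero A K w
  have hu0 : residue A (u : A) ≠ 0 := (u.isUnit.map (residue A)).ne_zero
  rw [tame_eq (z := algebraMap A K u) u.ne_zero one_ne_zero n3 d3 (by rw [map_one, div_one]) (num_div_den A K w).symm]
  have h1 : ∀ b : A, b ≠ 0 → τ (1 : A) b = 1 := fun b hb => by
    have := TameLib.tameSymbol_unit (1 : Aˣ) b (nz hb)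
    simpa using this
  rw [h1 _ d3, h1 _ n3, mul_one, mul_one, TameLib.tameSymbol_unit u _ (nz n3), TameLib.tameSymbol_unit u _ (nz d3),
    ← zpow_natCast, ← zpow_natCast, ← zpow_sub₀ hu0]
  congr 1
  have hdiv : CycAlg.ordFrac A K w = CycAlg.ordFrac A K (algebraMap A K (num A K w)) -
      CycAlg.ordFrac A K (algebraMap A K (den A K w)) := by
    conv_lhs => rw [← num_div_den A K w, div_eq_mul_inv]
    rw [TameLib.ordFrac_mul (map_ne_zero' n3) (inv_ne_zero (map_ne_zero' d3)), TameLib.ordFrac_inv (map_ne_zero' d3)]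
    ring
  rw [hdiv, ← length_quot_eq_ordFrac n3, ← length_quot_eq_ordFrac d3]

theorem tame_unit_right (u : Aˣ) {z : K} (hz : z ≠ 0) :
    tame A K z (algebraMap A K u) = (residue A (u : A) ^ CycAlg.ordFrac A K z)⁻¹ := by
  have n1 := num_ne_zero A K hz
  have d1 := den_ne_zero A K z
  have hu := map_ne_zero' (K := K) u.ne_zero
  rw [← tame_unit_left u hz]
  refine eq_inv_of_mul_eq_one_left ?_
  have hswap : tame A K z (algebraMap A K u) * tame A K (algebraMap A K u) z = 1 := by
    have hsw : ∀ p q : A, p ≠ 0 → q ≠ 0 → τ q p = (τ p q)⁻¹ := fun p q hp hq =>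
      TameLib.tameSymbol_swap p q (nz hp) (nz hq)
    have hun := num_ne_zero A K hu
    have hud := den_ne_zero A K (algebraMap A K (u : A))
    unfold tame
    rw [hsw _ _ n1 hun, hsw _ _ d1 hud, hsw _ _ d1 hun, hsw _ _ n1 hud]
    have := tau_ne_zero n1 hun
    have := tau_ne_zero d1 hud
    have := tau_ne_zero d1 hun
    have := tau_ne_zero n1 hud
    field_simp
  exact hswap

theorem tame_units (u v : Aˣ) : tame A K (algebraMap A K u) (algebraMap A K v) = 1 := by
  rw [tame_algebraMap u.ne_zero v.ne_zero, TameLib.tameSymbol_unit u _ v.isUnit.mem_nonZeroDivisors,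
    Ideal.span_singleton_eq_top.2 v.isUnit]
  haveI : Subsingleton (A ⧸ (⊤ : Ideal A)) := Ideal.Quotient.subsingleton_iff.2 rfl
  rw [Module.length_eq_zero, ENat.toNat_zero, pow_zero]

end CycCommLib

end
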