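import Mathlib
import Groth.Prelude.Def_Tame
import Groth.Agent.CycCommLib.TameFrac
import Groth.Agent.S1850

/-!
# The tame symbol and the order at a localization
-/

set_option autoImplicit false
set_option linter.style.haveILetI false
set_option linter.unusedSectionVars false

universe u

open IsLocalRing

noncomputable section

namespace CycCommLib

variable {R : Type u} [CommRing R] (q : Ideal R) [q.IsPrime] (S : Type u) [CommRing S] [IsLocalRing S]
  [Algebra R S] [IsLocalization.AtPrime S q]

/-- The residue field of a prime mapped to the residue field of a localization. -/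
def resHom : q.ResidueField →+* ResidueField S :=
  haveI : IsLocalHom (IsLocalization.algEquiv q.primeCompl (Localization.AtPrime q) S).toRingEquiv.toRingHom :=
    ⟨fun a ha => (isUnit_map_iff (IsLocalization.algEquiv q.primeCompl (Localization.AtPrime q) S).toRingEquiv a).1 ha⟩
  ResidueField.map (IsLocalization.algEquiv q.primeCompl (Localization.AtPrime q) S).toRingEquiv.toRingHom

theorem resHom_algebraMap (r : R) :
    resHom q S (algebraMap R q.ResidueField r) = residue S (algebraMap R S r) := by
  rw [IsScalarTower.algebraMap_apply R (Localization.AtPrime q) q.ResidueField]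
  exact congrArg (residue S) ((IsLocalization.algEquiv q.primeCompl (Localization.AtPrime q) S).commutes r)

theorem resHom_ne_zero {z : q.ResidueField} (hz : z ≠ 0) : resHom q S z ≠ 0 :=
  (_root_.map_ne_zero (resHom q S)).2 hz

variable [IsNoetherianRing R] [IsDomain R]

theorem tameSymbol_transport (hq : ringKrullDim (Localization.AtPrime q) = 1) {a b : R} (ha : a ≠ 0) (hb : b ≠ 0) :
    resHom q S (CycAlg.tameSymbol (Localization.AtPrime q) (algebraMap R _ a) (algebraMap R _ b)) =
      CycAlg.tameSymbol S (algebraMap R S a) (algebraMap R S b) := by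
  let A := Localization.AtPrime q
  let φ : A ≃ₐ[R] S := IsLocalization.algEquiv q.primeCompl A S
  letI algAS : Algebra A S := φ.toRingEquiv.toRingHom.toAlgebra
  haveI : IsLocalHom (algebraMap A S) := ⟨fun x hx => (isUnit_map_iff φ.toRingEquiv x).1 hx⟩
  haveI : IsNoetherianRing A := IsLocalization.isNoetherianRing q.primeCompl A inferInstance
  haveI : IsNoetherianRing S := IsLocalization.isNoetherianRing q.primeCompl S inferInstance
  haveI : Module.Flat A S := Module.Flat.of_linearEquiv
    ({ φ.symm.toRingEquiv with
       map_smul' := fun c x => by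
        show φ.symm (φ c * x) = c * φ.symm x
        rw [map_mul, φ.symm_apply_apply] } : S ≃ₗ[A] A)
  have hS : ringKrullDim S = 1 := (ringKrullDim_eq_of_ringEquiv φ.toRingEquiv).symm.trans hq
  have hne : ∀ r : R, r ≠ 0 → algebraMap R A r ∈ nonZeroDivisors A := fun r hr =>
    IsLocalization.map_nonZeroDivisors_le q.primeCompl A ⟨r, mem_nonZeroDivisors_of_ne_zero hr, rfl⟩
  have h := Groth.Agent.S1850.result A S hq hS (algebraMap R A a) (algebraMap R A b) (hne a ha) (hne b hb)
  have hmax : Ideal.map (algebraMap A S) (maximalIdeal A) = maximalIdeal S := by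
    refine le_antisymm (Ideal.map_le_iff_le_comap.2 (IsLocalRing.maximalIdeal_comap (algebraMap A S)).ge) fun x hx => ?_
    rw [← φ.apply_symm_apply x]
    refine Ideal.mem_map_of_mem (algebraMap A S) ((mem_maximalIdeal _).2 fun hu => (mem_maximalIdeal _).1 hx ?_)
    have := hu.map φ.toRingEquiv.toRingHom
    simpa using this
  haveI : IsSimpleModule S (S ⧸ maximalIdeal S) :=
    isSimpleModule_iff_isCoatom.2 (maximalIdeal.isMaximal S).out
  rw [hmax, Module.length_eq_one S (S ⧸ maximalIdeal S), ENat.toNat_one, pow_one] at h
  have ha' : algebraMap A S (algebraMap R A a) = algebraMap R S a := φ.commutes a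
  have hb' : algebraMap A S (algebraMap R A b) = algebraMap R S b := φ.commutes b
  rw [ha', hb'] at h
  exact h

end CycCommLib

end
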