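import Mathlib
import Groth.Prelude.Def_C1
import Groth.Agent.CycCommLib.Transport
import Groth.Agent.CycPushLib.Local
import Groth.Agent.CycPushLib.Closed
import Groth.Agent.CycDivLib.Pull
import Groth.Agent.S1851
import Groth.Agent.CycC1Lib.Cap

/-!
# Tame symbols of rational functions at points of codimension one
-/

set_option autoImplicit false
set_option linter.style.haveILetI false
set_option linter.unusedSectionVars false

universe u

open AlgebraicGeometry CategoryTheory IsLocalRing Opposite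

noncomputable section

namespace CycCommLib

variable {X : Scheme.{u}} [IsIntegral X] {δ : X → ℤ}

theorem generic_specializes (ξ : X) : genericPoint X ⤳ ξ := genericPoint_specializes ξ

/-- Germs as rational functions. -/
abbrev ratMap (ξ : X) : X.presheaf.stalk ξ →+* X.residueField (genericPoint X) :=
  Cyc.specMap ξ (genericPoint X) (generic_specializes ξ)

theorem ratMap_injective (ξ : X) : Function.Injective (ratMap ξ) :=
  (RingHom.injective_iff_ker_eq_bot _).2 (CycPushLib.ker_specMap_generic rfl _)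

theorem ratMap_specializes {x ξ : X} (h : ξ ⤳ x) (a : X.presheaf.stalk x) :
    ratMap ξ (X.presheaf.stalkSpecializes h a) = ratMap x a := by
  show X.residue _ (X.presheaf.stalkSpecializes _ (X.presheaf.stalkSpecializes h a)) = _
  rw [TopCat.Presheaf.stalkSpecializes_comp_apply]
  rfl

theorem isFractionRing_ratMap (ξ : X) :
    @IsFractionRing (X.presheaf.stalk ξ) _ (X.residueField (genericPoint X)) _ (ratMap ξ).toAlgebra := by
  letI := (ratMap ξ).toAlgebra
  haveI : FaithfulSMul (X.presheaf.stalk ξ) (X.residueField (genericPoint X)) :=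
    (faithfulSMul_iff_algebraMap_injective _ _).2 (ratMap_injective ξ)
  refine IsFractionRing.of_field _ _ fun z => ?_
  obtain ⟨a, b, -, hz⟩ := CycDivLib.exists_div (generic_specializes ξ) z
  exact ⟨a, b, hz⟩

theorem dim_stalk (hX : Cyc.IsSetup X δ) (ξ : X) {m : ℕ} (h : δ (genericPoint X) = δ ξ + m) :
    ringKrullDim (X.presheaf.stalk ξ) = (m : ℕ) := by
  haveI := hX.1
  have hb : (CycDivLib.primeOf (generic_specializes ξ)).asIdeal = ⊥ := by
    rw [← CycDivLib.ker_specMap]
    exact CycPushLib.ker_specMap_generic rfl _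
  have h1 := CycDivLib.dim_quotient (generic_specializes ξ)
  rw [hb, ringKrullDim_eq_of_ringEquiv (RingEquiv.quotientBot (X.presheaf.stalk ξ))] at h1
  obtain ⟨j, hj⟩ := EquidimLib.exists_dimBetween_eq_nat (generic_specializes ξ)
  have h2 := CycLimLib.delta_eq_add hX (generic_specializes ξ) hj
  rw [h1, hj, show j = m by omega]

theorem krullDimLE_one (hX : Cyc.IsSetup X δ) {ξ : X} (hd : δ ξ + 1 = δ (genericPoint X)) :
    Ring.KrullDimLE 1 (X.presheaf.stalk ξ) :=
  Ring.krullDimLE_iff.2 (dim_stalk hX ξ (m := 1) (by push_cast; omega)).le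

open Classical in
/-- The tame symbol of two rational functions at a point of codimension one. -/
def tameAt (hX : Cyc.IsSetup X δ) (ξ : X) (z w : X.residueField (genericPoint X)) : X.residueField ξ :=
  if hd : δ ξ + 1 = δ (genericPoint X) then
    letI := (ratMap ξ).toAlgebra
    haveI := isFractionRing_ratMap ξ
    haveI := hX.1
    haveI := krullDimLE_one hX hd
    tame (X.presheaf.stalk ξ) (X.residueField (genericPoint X)) z w
  else 1

variable (hX : Cyc.IsSetup X δ) {ξ : X} (hd : δ ξ + 1 = δ (genericPoint X))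
include hX hd

theorem tameAt_ne_zero {z w : X.residueField (genericPoint X)} (hz : z ≠ 0) (hw : w ≠ 0) :
    tameAt hX ξ z w ≠ 0 := by
  letI := (ratMap ξ).toAlgebra
  haveI := isFractionRing_ratMap ξ
  haveI := hX.1
  haveI := krullDimLE_one hX hd
  rw [tameAt, dif_pos hd]
  exact tame_ne_zero hz hw

theorem tameAt_mul_left {z z' w : X.residueField (genericPoint X)} (hz : z ≠ 0) (hz' : z' ≠ 0) (hw : w ≠ 0) :
    tameAt hX ξ (z * z') w = tameAt hX ξ z w * tameAt hX ξ z' w := by
  letI := (ratMap ξ).toAlgebra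
  haveI := isFractionRing_ratMap ξ
  haveI := hX.1
  haveI := krullDimLE_one hX hd
  simp only [tameAt, dif_pos hd]
  exact tame_mul_left hz hz' hw

theorem tameAt_mul_right {z w w' : X.residueField (genericPoint X)} (hz : z ≠ 0) (hw : w ≠ 0) (hw' : w' ≠ 0) :
    tameAt hX ξ z (w * w') = tameAt hX ξ z w * tameAt hX ξ z w' := by
  letI := (ratMap ξ).toAlgebra
  haveI := isFractionRing_ratMap ξ
  haveI := hX.1
  haveI := krullDimLE_one hX hd
  simp only [tameAt, dif_pos hd]
  exact tame_mul_right hz hw hw'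

theorem tameAt_ratMap {a b : X.presheaf.stalk ξ} (ha : a ≠ 0) (hb : b ≠ 0) :
    tameAt hX ξ (ratMap ξ a) (ratMap ξ b) = CycAlg.tameSymbol (X.presheaf.stalk ξ) a b := by
  letI := (ratMap ξ).toAlgebra
  haveI := isFractionRing_ratMap ξ
  haveI := hX.1
  haveI := krullDimLE_one hX hd
  simp only [tameAt, dif_pos hd]
  exact tame_algebraMap ha hb

theorem ordFrac_eq_ordAt (z : X.residueField (genericPoint X)) :
    @CycAlg.ordFrac (X.presheaf.stalk ξ) _ (X.residueField (genericPoint X)) _ (ratMap ξ).toAlgebra z =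
      Cyc.ordAt ξ (genericPoint X) (generic_specializes ξ) z := by
  letI := (ratMap ξ).toAlgebra
  haveI := isFractionRing_ratMap ξ
  haveI := hX.1
  haveI := krullDimLE_one hX hd
  have hb := CycPushLib.dimBetween_le_one_of_drop hX (generic_specializes ξ) hd
  by_cases hz : z = 0
  · subst hz
    rw [Cyc.ordAt, TameLib.ordFrac_eq, map_zero]
    haveI : Ring.KrullDimLE 1 (Cyc.LocQuot ξ (genericPoint X) (generic_specializes ξ)) :=
      Ring.krullDimLE_iff.2 ((CycDivLib.dim_locQuot _).le.trans hb)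
    rw [TameLib.ordFrac_eq, map_zero]
  · have hn := num_ne_zero (X.presheaf.stalk ξ) _ hz
    have hd' := den_ne_zero (X.presheaf.stalk ξ) (X.residueField (genericPoint X)) z
    have hval : ∀ a : X.presheaf.stalk ξ, a ≠ 0 →
        CycAlg.ordFrac (X.presheaf.stalk ξ) (X.residueField (genericPoint X)) (algebraMap _ _ a) =
          Cyc.ordAt ξ (genericPoint X) (generic_specializes ξ) (Cyc.specMap ξ _ (generic_specializes ξ) a) := by
      intro a ha
      rw [CycDivLib.ordAt_specMap _ hb (fun h => ha (ratMap_injective ξ (h.trans (map_zero _).symm))),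
        TameLib.ordFrac_algebraMap ha, ← CycDivLib.ker_specMap, CycPushLib.ker_specMap_generic rfl, bot_sup_eq]
      rfl
    conv_lhs => rw [← num_div_den (X.presheaf.stalk ξ) _ z, div_eq_mul_inv]
    conv_rhs => rw [← num_div_den (X.presheaf.stalk ξ) _ z]
    rw [TameLib.ordFrac_mul (map_ne_zero' hn) (inv_ne_zero (map_ne_zero' hd')),
      TameLib.ordFrac_inv (map_ne_zero' hd'), hval _ hn, hval _ hd']
    refine (sub_eq_add_neg _ _).symm.trans ?_
    exact (CycDivLib.ordAt_div _ hb (map_ne_zero' hn) (map_ne_zero' hd')).symm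

theorem tameAt_unit_left (u : (X.presheaf.stalk ξ)ˣ) {w : X.residueField (genericPoint X)} (hw : w ≠ 0) :
    tameAt hX ξ (ratMap ξ u) w =
      X.residue ξ (u : X.presheaf.stalk ξ) ^ Cyc.ordAt ξ (genericPoint X) (generic_specializes ξ) w := by
  letI := (ratMap ξ).toAlgebra
  haveI := isFractionRing_ratMap ξ
  haveI := hX.1
  haveI := krullDimLE_one hX hd
  simp only [tameAt, dif_pos hd]
  rw [← ordFrac_eq_ordAt hX hd w]
  exact tame_unit_left u hw

theorem tameAt_unit_right (u : (X.presheaf.stalk ξ)ˣ) {z : X.residueField (genericPoint X)} (hz : z ≠ 0) :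
    tameAt hX ξ z (ratMap ξ u) =
      (X.residue ξ (u : X.presheaf.stalk ξ) ^ Cyc.ordAt ξ (genericPoint X) (generic_specializes ξ) z)⁻¹ := by
  letI := (ratMap ξ).toAlgebra
  haveI := isFractionRing_ratMap ξ
  haveI := hX.1
  haveI := krullDimLE_one hX hd
  simp only [tameAt, dif_pos hd]
  rw [← ordFrac_eq_ordAt hX hd z]
  exact tame_unit_right u hz

theorem tameAt_units (u v : (X.presheaf.stalk ξ)ˣ) : tameAt hX ξ (ratMap ξ u) (ratMap ξ v) = 1 := by
  letI := (ratMap ξ).toAlgebra
  haveI := isFractionRing_ratMap ξ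
  haveI := hX.1
  haveI := krullDimLE_one hX hd
  simp only [tameAt, dif_pos hd]
  exact tame_units u v

omit hd

/-- The reciprocity law at a point of codimension two, for germs. -/
theorem sum_ordAt_tameAt_germ {x : X} (hx : δ x + 2 = δ (genericPoint X)) {a b : X.presheaf.stalk x}
    (ha : a ≠ 0) (hb : b ≠ 0) :
    ∑ᶠ ξ : X, (if δ ξ + 1 = δ (genericPoint X) then
      Cyc.divFun δ ξ (tameAt hX ξ (ratMap x a) (ratMap x b)) x else 0) = 0 := by
  classical
  haveI := hX.1
  let R : Type u := X.presheaf.stalk x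
  let pt : PrimeSpectrum R → X := EquidimLib.stalkPt x
  have hpt : ∀ P, pt P ⤳ x := EquidimLib.stalkPt_specializes x
  have hprime : ∀ P : PrimeSpectrum R, CycDivLib.primeOf (hpt P) = P := fun P =>
    EquidimLib.stalkPt_injective x (CycDivLib.stalkPt_primeOf (hpt P))
  have key := Groth.Agent.S1851.result R (by rw [dim_stalk hX x (m := 2) (by push_cast; omega)]; rfl) a b
    (mem_nonZeroDivisors_of_ne_zero ha) (mem_nonZeroDivisors_of_ne_zero hb)
  rw [← finsum_mem_univ, finsum_mem_inter_support_eq _ Set.univ (Set.range pt) ?sup,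
    finsum_mem_range (EquidimLib.stalkPt_injective x)]
  case sup =>
    refine (Set.univ_inter _).trans (Set.inter_eq_right.2 ?_).symm
    intro ξ hξ
    rw [Function.mem_support] at hξ
    split_ifs at hξ
    · refine ⟨CycDivLib.primeOf (?h : ξ ⤳ x), CycDivLib.stalkPt_primeOf _⟩
      by_contra hn
      exact hξ (CycC1Lib.divFun_eq_zero_of_not_specializes hn _)
    · exact absurd rfl hξ
  refine Eq.trans ?_ key
  refine finsum_congr fun P => ?_
  have hdim : ∀ S : Type u, ∀ [CommRing S] [Algebra R S] [IsLocalization.AtPrime S P.asIdeal],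
      ringKrullDim S = P.asIdeal.height := fun S _ _ _ => IsLocalization.AtPrime.ringKrullDim_eq_height P.asIdeal S
  letI := (X.presheaf.stalkSpecializes (hpt P)).hom.toAlgebra
  haveI : IsLocalization.AtPrime (X.presheaf.stalk (pt P)) P.asIdeal := by
    have h := CycDivLib.isLocalization_stalkSpecializes (hpt P)
    rwa [hprime] at h
  obtain ⟨j, hj⟩ := EquidimLib.exists_dimBetween_eq_nat (generic_specializes (pt P))
  have hδj := CycLimLib.delta_eq_add hX (generic_specializes (pt P)) hj
  have hh : P.asIdeal.height = (j : ℕ∞) := by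
    have h1 := (hdim (X.presheaf.stalk (pt P))).symm.trans (dim_stalk hX (pt P) (m := j) (by omega))
    exact_mod_cast h1
  by_cases hP : δ (pt P) + 1 = δ (genericPoint X)
  swap
  · rw [if_neg hP, finsum_eq_if, if_neg]
    intro h1
    rw [hh] at h1
    refine hP ?_
    have : j = 1 := by exact_mod_cast h1
    omega
  have hh1 : P.asIdeal.height = 1 := by
    rw [hh, show j = 1 by omega, Nat.cast_one]
  have hPdim : ringKrullDim (Localization.AtPrime P.asIdeal) = 1 := by
    rw [hdim, hh1]
    rfl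
  have hxd : δ x + 1 = δ (pt P) := by omega
  have hd' := CycPushLib.dimBetween_le_one_of_drop hX (hpt P) hxd
  rw [if_pos hP, finsum_eq_if, if_pos hh1, Cyc.divFun, dif_pos ⟨hpt P, hxd⟩]
  have hspec : ∀ r : R, ratMap x r = ratMap (pt P) (algebraMap R (X.presheaf.stalk (pt P)) r) := fun r =>
    (ratMap_specializes (hpt P) r).symm
  have hne : ∀ r : R, r ≠ 0 → algebraMap R (X.presheaf.stalk (pt P)) r ≠ 0 := fun r hr h =>
    hr (ratMap_injective x (by rw [hspec, h, map_zero, map_zero]))
  rw [hspec, hspec, tameAt_ratMap hX hP (hne a ha) (hne b hb),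
    ← tameSymbol_transport P.asIdeal (X.presheaf.stalk (pt P)) hPdim ha hb]
  haveI : Ring.KrullDimLE 1 (R ⧸ P.asIdeal) := Ring.krullDimLE_iff.2 (by
    have h := hd'
    rw [← CycDivLib.dim_quotient (hpt P), hprime] at h
    exact h)
  have hval : ∀ r : R, algebraMap (R ⧸ P.asIdeal) P.asIdeal.ResidueField (Ideal.Quotient.mk _ r) ≠ 0 →
      Cyc.ordAt x (pt P) (hpt P) (resHom P.asIdeal (X.presheaf.stalk (pt P)) (algebraMap R P.asIdeal.ResidueField r)) =
        CycAlg.ordFrac (R ⧸ P.asIdeal) P.asIdeal.ResidueField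
          (algebraMap (R ⧸ P.asIdeal) P.asIdeal.ResidueField (Ideal.Quotient.mk _ r)) := by
    intro r hr
    have hr' : Ideal.Quotient.mk P.asIdeal r ≠ 0 := fun h => hr (by rw [h, map_zero])
    have hs : Cyc.specMap x (pt P) (hpt P) r ≠ 0 := fun h => hr' (by
      rw [Ideal.Quotient.eq_zero_iff_mem, ← hprime P]
      exact (CycDivLib.specMap_eq_zero_iff _ r).1 h)
    rw [TameLib.ordFrac_algebraMap hr', CycDivLib.length_quot_quot, resHom_algebraMap]
    refine (CycDivLib.ordAt_specMap (hpt P) hd' hs).trans ?_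
    rw [hprime]
  set w := CycAlg.tameSymbol (Localization.AtPrime P.asIdeal) (algebraMap R _ a) (algebraMap R _ b) with hw
  obtain ⟨c, d, hd0, hcd⟩ := IsFractionRing.div_surjective (A := R ⧸ P.asIdeal) w
  obtain ⟨c, rfl⟩ := Ideal.Quotient.mk_surjective c
  obtain ⟨d, rfl⟩ := Ideal.Quotient.mk_surjective d
  have hw0 : w ≠ 0 := by
    haveI : IsNoetherianRing (Localization.AtPrime P.asIdeal) := IsLocalization.isNoetherianRing P.asIdeal.primeCompl _ inferInstance
    haveI : Ring.KrullDimLE 1 (Localization.AtPrime P.asIdeal) := Ring.krullDimLE_iff.2 hPdim.le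
    exact TameLib.tameSymbol_ne_zero _ _
      (IsLocalization.map_nonZeroDivisors_le P.asIdeal.primeCompl _ ⟨a, mem_nonZeroDivisors_of_ne_zero ha, rfl⟩)
      (IsLocalization.map_nonZeroDivisors_le P.asIdeal.primeCompl _ ⟨b, mem_nonZeroDivisors_of_ne_zero hb, rfl⟩)
  rw [← hcd] at hw0 ⊢
  obtain ⟨hc1, hd1⟩ := div_ne_zero_iff.1 hw0
  have eC : algebraMap R P.asIdeal.ResidueField c = algebraMap (R ⧸ P.asIdeal) _ (Ideal.Quotient.mk _ c) :=
    IsScalarTower.algebraMap_apply R (R ⧸ P.asIdeal) _ c
  have eD : algebraMap R P.asIdeal.ResidueField d = algebraMap (R ⧸ P.asIdeal) _ (Ideal.Quotient.mk _ d) :=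
    IsScalarTower.algebraMap_apply R (R ⧸ P.asIdeal) _ d
  rw [map_div₀, div_eq_mul_inv (G := P.asIdeal.ResidueField), TameLib.ordFrac_mul hc1 (inv_ne_zero hd1),
    TameLib.ordFrac_inv hd1, ← hval c hc1, ← hval d hd1, eC, eD]
  exact (CycDivLib.ordAt_div _ hd' (resHom_ne_zero _ _ hc1) (resHom_ne_zero _ _ hd1)).trans (sub_eq_add_neg _ _)

end CycCommLib

end
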