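import Mathlib
import Groth.Prelude.Def_C1
import Groth.Agent.CycC1Lib.Cap
import Groth.Agent.CycC1Lib.Push
import Groth.Agent.CycCommLib.Generic
import Groth.Agent.CycCommLib.RatEquiv

/-!
# Commutativity of caps with divisors of rational sections
-/

set_option autoImplicit false
set_option linter.style.haveILetI false
set_option linter.unusedSectionVars false

universe u

open AlgebraicGeometry CategoryTheory IsLocalRing Opposite

noncomputable section

namespace CycCommLib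

open CycC1Lib (fib)

variable {X : Scheme.{u}} [IsIntegral X] {δ : X → ℤ}

local notation "η" => genericPoint X

theorem ordAt_one (hX : Cyc.IsSetup X δ) {x ξ : X} (h : ξ ⤳ x) (hd : δ x + 1 = δ ξ) :
    Cyc.ordAt x ξ h (1 : X.residueField ξ) = 0 := by
  haveI := hX.1
  have h1 := CycDivLib.ordAt_mul h (CycPushLib.dimBetween_le_one_of_drop hX h hd) (one_ne_zero (α := X.residueField ξ)) one_ne_zero
  rw [mul_one] at h1
  omega

theorem divFun_one (hX : Cyc.IsSetup X δ) (ξ x : X) : Cyc.divFun δ ξ (1 : X.residueField ξ) x = 0 := by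
  by_cases h : ξ ⤳ x ∧ δ x + 1 = δ ξ
  · rw [Cyc.divFun, dif_pos h, ordAt_one hX h.1 h.2]
  · rw [Cyc.divFun, dif_neg h]

theorem divFun_mul (hX : Cyc.IsSetup X δ) {ξ : X} {y z : X.residueField ξ} (hy : y ≠ 0) (hz : z ≠ 0) (x : X) :
    Cyc.divFun δ ξ (y * z) x = Cyc.divFun δ ξ y x + Cyc.divFun δ ξ z x := by
  haveI := hX.1
  by_cases h : ξ ⤳ x ∧ δ x + 1 = δ ξ
  · simp only [Cyc.divFun, dif_pos h]
    exact CycDivLib.ordAt_mul h.1 (CycPushLib.dimBetween_le_one_of_drop hX h.1 h.2) hy hz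
  · simp only [Cyc.divFun, dif_neg h, add_zero]

/-- A section as a rational function. -/
def ratSec {V : X.Opens} (hV : η ∈ V) (a : Γ(X, V)) : X.residueField η := X.evaluation V η hV a

theorem ratMap_germ {V : X.Opens} {ξ : X} (hξ : ξ ∈ V) (a : Γ(X, V)) :
    ratMap ξ (X.presheaf.germ V ξ hξ a) = ratSec ((generic_specializes ξ).mem_open V.isOpen hξ) a :=
  CycPushLib.specMap_germ _ hξ _ a

theorem exists_frac {V : X.Opens} (hV : IsAffineOpen V) (hη : η ∈ V) {z : X.residueField η} (hz : z ≠ 0) :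
    ∃ A B : Γ(X, V), ratSec hη A ≠ 0 ∧ ratSec hη B ≠ 0 ∧ z = ratSec hη A / ratSec hη B := by
  obtain ⟨φ, rfl⟩ := X.residue_surjective η z
  let alg := X.presheaf.algebra_section_stalk (⟨η, hη⟩ : V)
  haveI : IsLocalization.AtPrime (X.presheaf.stalk η) (hV.primeIdealOf ⟨η, hη⟩).asIdeal :=
    hV.isLocalization_stalk ⟨η, hη⟩
  obtain ⟨a, s, rfl⟩ := IsLocalization.exists_mk'_eq (hV.primeIdealOf ⟨η, hη⟩).asIdeal.primeCompl φ
  have hσ : ∀ r : Γ(X, V), ratSec hη r = X.residue η (algebraMap Γ(X, V) (X.presheaf.stalk η) r) := fun _ => rfl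
  have hs : ratSec hη (s : Γ(X, V)) ≠ 0 := fun h0 =>
    (mem_maximalIdeal _).1 ((residue_eq_zero_iff _).1 ((hσ _).symm.trans h0))
      (IsLocalization.map_units _ s)
  have heq : X.residue η (IsLocalization.mk' (X.presheaf.stalk η) a s) = ratSec hη a / ratSec hη (s : Γ(X, V)) := by
    rw [eq_div_iff hs, hσ, hσ, ← map_mul, IsLocalization.mk'_spec]
  refine ⟨a, s, fun h => hz ?_, hs, heq⟩
  rw [heq, h, zero_div]

theorem finite_bad (hX : Cyc.IsSetup X δ) {V : X.Opens} (hV : IsAffineOpen V) (hη : η ∈ V) {a : Γ(X, V)}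
    (ha : ratSec hη a ≠ 0) :
    {ξ : X | ∃ h : ξ ∈ V, δ ξ + 1 = δ η ∧ ¬ IsUnit (X.presheaf.germ V ξ h a)}.Finite := by
  haveI := hX.1
  haveI : IsNoetherianRing Γ(X, V) := IsLocallyNoetherian.component_noetherian ⟨V, hV⟩
  refine (((Ideal.finite_minimalPrimes_of_isNoetherianRing Γ(X, V) (Ideal.span {a})).preimage
    (f := PrimeSpectrum.asIdeal) (fun p _ q _ h => PrimeSpectrum.ext h)).image hV.fromSpec).subset ?_
  rintro ξ ⟨hξ, hd, hu⟩
  refine ⟨hV.primeIdealOf ⟨ξ, hξ⟩, ?_, hV.fromSpec_primeIdealOf ⟨ξ, hξ⟩⟩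
  have hloc := hV.isLocalization_stalk ⟨ξ, hξ⟩
  let alg := X.presheaf.algebra_section_stalk (⟨ξ, hξ⟩ : V)
  have haP : a ∈ (hV.primeIdealOf ⟨ξ, hξ⟩).asIdeal := by
    by_contra hn
    exact hu (IsLocalization.map_units (M := (hV.primeIdealOf ⟨ξ, hξ⟩).asIdeal.primeCompl) (X.presheaf.stalk ξ) ⟨a, hn⟩)
  refine ⟨⟨(hV.primeIdealOf ⟨ξ, hξ⟩).2, (Ideal.span_singleton_le_iff_mem _).2 haP⟩, fun Q hQ hle => ?_⟩
  let q : PrimeSpectrum Γ(X, V) := ⟨Q, hQ.1⟩
  let y : X := hV.fromSpec q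
  have hsp : y ⤳ ξ := by
    have h := ((PrimeSpectrum.le_iff_specializes q (hV.primeIdealOf ⟨ξ, hξ⟩)).mp hle).map hV.fromSpec.continuous
    rwa [hV.fromSpec_primeIdealOf ⟨ξ, hξ⟩] at h
  by_contra hne
  have hyξ : y ≠ ξ := fun h => hne (by
    have hq : q = hV.primeIdealOf ⟨ξ, hξ⟩ :=
      hV.fromSpec.isOpenEmbedding.injective (h.trans (hV.fromSpec_primeIdealOf ⟨ξ, hξ⟩).symm)
    exact (congrArg PrimeSpectrum.asIdeal hq).ge)
  have hyη : η ≠ y := fun h => ha ((residue_eq_zero_iff _).2 ((mem_maximalIdeal _).2 fun hu' => by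
    have hloc' := hV.isLocalization_stalk ⟨η, hη⟩
    let alg' := X.presheaf.algebra_section_stalk (⟨η, hη⟩ : V)
    have hq : hV.primeIdealOf ⟨η, hη⟩ = q :=
      hV.fromSpec.isOpenEmbedding.injective ((hV.fromSpec_primeIdealOf ⟨η, hη⟩).trans h)
    have haq : a ∈ (hV.primeIdealOf ⟨η, hη⟩).asIdeal := by
      rw [hq]
      exact (Ideal.span_singleton_le_iff_mem _).1 hQ.2
    exact (mem_maximalIdeal _).1 ((IsLocalization.AtPrime.to_map_mem_maximal_iff (X.presheaf.stalk η)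
      (hV.primeIdealOf ⟨η, hη⟩).asIdeal a).2 haq) hu'))
  have h1 := (hX.2.2 η y (generic_specializes y) hyη).1
  have h2 := (hX.2.2 y ξ hsp hyξ).1
  omega

theorem divFun_tameAt_sections (hX : Cyc.IsSetup X δ) {V : X.Opens} {ξ : X} (hξ : ξ ∈ V)
    (hd : δ ξ + 1 = δ η) {a b : Γ(X, V)} (ha : IsUnit (X.presheaf.germ V ξ hξ a))
    (hb : IsUnit (X.presheaf.germ V ξ hξ b)) :
    tameAt hX ξ (ratSec ((generic_specializes ξ).mem_open V.isOpen hξ) a)
      (ratSec ((generic_specializes ξ).mem_open V.isOpen hξ) b) = 1 := by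
  rw [← ratMap_germ hξ, ← ratMap_germ hξ, ← ha.unit_spec, ← hb.unit_spec]
  exact tameAt_units hX hd _ _

/-- The reciprocity law at a point of codimension two. -/
theorem sum_divFun_tameAt (hX : Cyc.IsSetup X δ) {x : X} (hx : δ x + 2 = δ η) {z w : X.residueField η}
    (hz : z ≠ 0) (hw : w ≠ 0) :
    ∑ᶠ ξ : X, (if δ ξ + 1 = δ η then Cyc.divFun δ ξ (tameAt hX ξ z w) x else 0) = 0 := by
  classical
  obtain ⟨V, hV, hxV, -⟩ := exists_isAffineOpen_mem_and_subset (X := X) (x := x) (U := ⊤) trivial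
  have hη : η ∈ V := (generic_specializes x).mem_open V.isOpen hxV
  obtain ⟨A, B, hA, hB, rfl⟩ := exists_frac hV hη hz
  obtain ⟨C, D, hC, hD, rfl⟩ := exists_frac hV hη hw
  let T : X.residueField η → X.residueField η → X → ℤ := fun z w ξ =>
    if δ ξ + 1 = δ η then Cyc.divFun δ ξ (tameAt hX ξ z w) x else 0
  have hTfin : ∀ {a b : Γ(X, V)}, ratSec hη a ≠ 0 → ratSec hη b ≠ 0 →
      (Function.support (T (ratSec hη a) (ratSec hη b))).Finite := by
    intro a b ha hb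
    refine ((finite_bad hX hV hη ha).union (finite_bad hX hV hη hb)).subset fun ξ hξ => ?_
    simp only [T, Function.mem_support] at hξ
    split_ifs at hξ with hd
    swap
    · exact absurd rfl hξ
    have hξV : ξ ∈ V := by
      refine Specializes.mem_open ?_ V.isOpen hxV
      by_contra hn
      exact hξ (CycC1Lib.divFun_eq_zero_of_not_specializes hn _)
    by_contra hn
    simp only [Set.mem_union, Set.mem_setOf_eq, not_or, not_exists, not_and, not_not] at hn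
    exact hξ (by rw [divFun_tameAt_sections hX hξV hd (hn.1 hξV hd) (hn.2 hξV hd), divFun_one hX])
  have hzero : ∀ {a b : Γ(X, V)}, ratSec hη a ≠ 0 → ratSec hη b ≠ 0 →
      ∑ᶠ ξ : X, T (ratSec hη a) (ratSec hη b) ξ = 0 := by
    intro a b ha hb
    have h := sum_ordAt_tameAt_germ hX hx (a := X.presheaf.germ V x hxV a) (b := X.presheaf.germ V x hxV b)
      (fun h => ha (by rw [← ratMap_germ hxV, h, map_zero])) (fun h => hb (by rw [← ratMap_germ hxV, h, map_zero]))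
    rw [ratMap_germ hxV, ratMap_germ hxV] at h
    exact h
  have hsplit : ∀ ξ, T (ratSec hη A / ratSec hη B) (ratSec hη C / ratSec hη D) ξ =
      (T (ratSec hη A) (ratSec hη C) ξ - T (ratSec hη A) (ratSec hη D) ξ) -
        (T (ratSec hη B) (ratSec hη C) ξ - T (ratSec hη B) (ratSec hη D) ξ) := by
    intro ξ
    simp only [T]
    split_ifs with hd
    swap
    · simp
    have hA' : ratSec hη A / ratSec hη B * ratSec hη B = ratSec hη A := div_mul_cancel₀ _ hB
    have hC' : ratSec hη C / ratSec hη D * ratSec hη D = ratSec hη C := div_mul_cancel₀ _ hD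
    have e1 : ∀ p : X.residueField η, p ≠ 0 → Cyc.divFun δ ξ (tameAt hX ξ (ratSec hη A) p) x =
        Cyc.divFun δ ξ (tameAt hX ξ (ratSec hη A / ratSec hη B) p) x +
          Cyc.divFun δ ξ (tameAt hX ξ (ratSec hη B) p) x := fun p hp => by
      rw [← divFun_mul hX (tameAt_ne_zero hX hd hz hp) (tameAt_ne_zero hX hd hB hp),
        ← tameAt_mul_left hX hd hz hB hp, hA']
    have e2 : Cyc.divFun δ ξ (tameAt hX ξ (ratSec hη A / ratSec hη B) (ratSec hη C)) x =
        Cyc.divFun δ ξ (tameAt hX ξ (ratSec hη A / ratSec hη B) (ratSec hη C / ratSec hη D)) x +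
          Cyc.divFun δ ξ (tameAt hX ξ (ratSec hη A / ratSec hη B) (ratSec hη D)) x := by
      rw [← divFun_mul hX (tameAt_ne_zero hX hd hz hw) (tameAt_ne_zero hX hd hz hD),
        ← tameAt_mul_right hX hd hz hw hD, hC']
    rw [e1 _ hC, e1 _ hD, e2]
    ring
  have hfin1 := hTfin hA hC
  have hfin2 := hTfin hA hD
  have hfin3 := hTfin hB hC
  have hfin4 := hTfin hB hD
  show ∑ᶠ ξ : X, T _ _ ξ = 0
  rw [finsum_congr hsplit,
    finsum_sub_distrib ((hfin1.union hfin2).subset (Function.support_sub _ _))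
      ((hfin3.union hfin4).subset (Function.support_sub _ _)),
    finsum_sub_distrib hfin1 hfin2, finsum_sub_distrib hfin3 hfin4,
    hzero hA hC, hzero hA hD, hzero hB hC, hzero hB hD]
  simp

/-- The divisor of a rational section as a cycle. -/
def secDivCyc (hX : Cyc.IsSetup X δ) {L : X.Modules} (hL : PicF.IsInvertible L) {s : Cyc.secFibre L η}
    (hs : s ≠ 0) : AlgebraicCycle X ℤ where
  toFun := Cyc.secDivFun δ L η s
  supportWithinDomain' := by simp
  supportLocallyFiniteWithinDomain' x _ := by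
    obtain ⟨U, e, hxU, he⟩ := TwistLib.exists_genOn hL x
    obtain ⟨V, hV, hxV, hVU⟩ := exists_isAffineOpen_mem_and_subset (X := X) (x := x) (U := U) hxU
    have hηU : η ∈ U := (generic_specializes x).mem_open U.isOpen hxU
    obtain ⟨φ, hφ⟩ := CycC1Lib.exists_coord (he.genAt hηU) s
    refine ⟨V, V.isOpen.mem_nhds hxV,
      (CycPushLib.finite_divFun_support (δ := δ) hX η (CycC1Lib.residue_coord_ne_zero (he.genAt hηU) hs hφ) hV).subset ?_⟩
    rintro y ⟨hyV, hy⟩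
    refine ⟨hyV, ?_⟩
    rw [← CycC1Lib.secDivFun_eq_divFun hX he (hVU hyV) hηU hφ]
    exact hy

theorem secDivCyc_mem_Zk (hX : Cyc.IsSetup X δ) {L : X.Modules} (hL : PicF.IsInvertible L) {s : Cyc.secFibre L η}
    (hs : s ≠ 0) {m : ℤ} (hm : m + 1 = δ η) : secDivCyc hX hL hs ∈ Cyc.Zk X δ m := fun y hy => by
  show Cyc.secDivFun δ L η s y = 0
  exact CycC1Lib.secDivFun_eq_zero_of_not (fun h => hy (by omega)) _

/-- Two frames differ by a unit. -/
theorem exists_unit_frame {L : X.Modules} {U U' : X.Opens} {e : Γ(L, U)} {e' : Γ(L, U')}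
    (he : AmpleLib.GenOn L e) (he' : AmpleLib.GenOn L e') {ξ : X} (hU : ξ ∈ U) (hU' : ξ ∈ U') :
    ∃ a : (X.presheaf.stalk ξ)ˣ, L.presheaf.germ U' ξ hU' e' = (a : X.presheaf.stalk ξ) • L.presheaf.germ U ξ hU e := by
  obtain ⟨a, ha⟩ := (he.genAt hU).2 (L.presheaf.germ U' ξ hU' e')
  obtain ⟨b, hb⟩ := (he'.genAt hU').2 (L.presheaf.germ U ξ hU e)
  refine ⟨(IsUnit.of_mul_eq_one b ((he.genAt hU).1 (?_ : (a * b) • _ = (1 : X.presheaf.stalk ξ) • _))).unit, ha.symm⟩
  rw [mul_comm, mul_smul, one_smul]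
  exact (congrArg (b • ·) ha).trans hb

theorem coord_change {L : X.Modules} {U U' : X.Opens} {e : Γ(L, U)} {e' : Γ(L, U')}
    (he : AmpleLib.GenOn L e) {ξ : X} (hU : ξ ∈ U) (hU' : ξ ∈ U') {a : X.presheaf.stalk ξ}
    (ha : L.presheaf.germ U' ξ hU' e' = a • L.presheaf.germ U ξ hU e) {s : Cyc.secFibre L η}
    {φ ψ : X.presheaf.stalk η}
    (hφ : s = φ • fib L (L.presheaf.germ U η ((generic_specializes ξ).mem_open U.isOpen hU) e))
    (hψ : s = ψ • fib L (L.presheaf.germ U' η ((generic_specializes ξ).mem_open U'.isOpen hU') e')) :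
    X.residue η φ = X.residue η ψ * ratMap ξ a := by
  have h : L.presheaf.germ U' η ((generic_specializes ξ).mem_open U'.isOpen hU') e' =
      X.presheaf.stalkSpecializes (generic_specializes ξ) a •
        L.presheaf.germ U η ((generic_specializes ξ).mem_open U.isOpen hU) e := by
    have := congrArg (L.presheaf.stalkSpecializes (generic_specializes ξ)) ha
    rwa [CycC1Lib.stalkSpecializes_smul, TopCat.Presheaf.germ_stalkSpecializes_apply,
      TopCat.Presheaf.germ_stalkSpecializes_apply] at this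
  rw [show ratMap ξ a = X.residue η (X.presheaf.stalkSpecializes (generic_specializes ξ) a) from rfl, ← map_mul]
  refine CycC1Lib.residue_coord_unique (he.genAt ((generic_specializes ξ).mem_open U.isOpen hU)) ?_
  rw [← hφ, hψ, mul_smul]
  exact congrArg (ψ • ·) ((congrArg (fib L) h).trans (Submodule.Quotient.mk_smul _ _ _))

/-- The commutation of the two caps with the divisors of rational sections, computed in given frames. -/
theorem secDiv_comm_family (hX : Cyc.IsSetup X δ) {L N : X.Modules}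
    (hL : PicF.IsInvertible L) (hN : PicF.IsInvertible N) {s : Cyc.secFibre L η} (hs : s ≠ 0)
    {t : Cyc.secFibre N η} (ht : t ≠ 0)
    (UL : X → X.Opens) (eL : (ξ : X) → Γ(L, UL ξ)) (hUL : ∀ ξ, ξ ∈ UL ξ) (heL : ∀ ξ, AmpleLib.GenOn L (eL ξ))
    (UN : X → X.Opens) (eN : (ξ : X) → Γ(N, UN ξ)) (hUN : ∀ ξ, ξ ∈ UN ξ) (heN : ∀ ξ, AmpleLib.GenOn N (eN ξ)) :
    ∃ (ι : Type u) (pts : ι → X) (fn : (i : ι) → X.residueField (pts i)),
      (∀ i, δ (pts i) + 1 = δ η) ∧ (∀ i, fn i ≠ 0) ∧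
      (∀ x : X, ∃ U : Set X, IsOpen U ∧ x ∈ U ∧ {i | (closure {pts i} ∩ U).Nonempty}.Finite) ∧
      (∀ i, s ≠ fib L (L.presheaf.germ (UL (pts i)) η
        ((generic_specializes (pts i)).mem_open (UL (pts i)).isOpen (hUL (pts i))) (eL (pts i)))) ∧
      (∀ i, t ≠ fib N (N.presheaf.germ (UN (pts i)) η
        ((generic_specializes (pts i)).mem_open (UN (pts i)).isOpen (hUN (pts i))) (eN (pts i)))) ∧
      ∀ x : X, Cyc.c1CapFun δ N (Cyc.secDivFun δ L η s)
            (fun ξ => fib N (N.presheaf.germ (UN ξ) ξ (hUN ξ) (eN ξ))) x -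
          Cyc.c1CapFun δ L (Cyc.secDivFun δ N η t)
            (fun ξ => fib L (L.presheaf.germ (UL ξ) ξ (hUL ξ) (eL ξ))) x =
        ∑ᶠ i, Cyc.divFun δ (pts i) (fn i) x := by
  classical
  haveI := hX.1
  let u₀ : ∀ ξ, Cyc.secFibre N ξ := fun ξ => fib N (N.presheaf.germ (UN ξ) ξ (hUN ξ) (eN ξ))
  let v₀ : ∀ ξ, Cyc.secFibre L ξ := fun ξ => fib L (L.presheaf.germ (UL ξ) ξ (hUL ξ) (eL ξ))
  let α := secDivCyc hX hL hs
  let β := secDivCyc hX hN ht
  choose φ hφ using fun ξ => CycC1Lib.exists_coord ((heL ξ).genAt ((generic_specializes ξ).mem_open (UL ξ).isOpen (hUL ξ))) s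
  choose ψ hψ using fun ξ => CycC1Lib.exists_coord ((heN ξ).genAt ((generic_specializes ξ).mem_open (UN ξ).isOpen (hUN ξ))) t
  let f : X → X.residueField η := fun ξ => X.residue η (φ ξ)
  let g : X → X.residueField η := fun ξ => X.residue η (ψ ξ)
  have hf0 : ∀ ξ, f ξ ≠ 0 := fun ξ => CycC1Lib.residue_coord_ne_zero ((heL ξ).genAt _) hs (hφ ξ)
  have hg0 : ∀ ξ, g ξ ≠ 0 := fun ξ => CycC1Lib.residue_coord_ne_zero ((heN ξ).genAt _) ht (hψ ξ)
  let h : ∀ ξ : X, X.residueField ξ := fun ξ => tameAt hX ξ (f ξ) (g ξ)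
  let ι := {ξ : X // δ ξ + 1 = δ η ∧ h ξ ≠ 1}
  have hloc : ∀ x : X, ∃ U : Set X, IsOpen U ∧ x ∈ U ∧ {i : ι | (closure {i.1} ∩ U).Nonempty}.Finite := by
    intro x
    obtain ⟨W, hW, hxW, hWU⟩ := exists_isAffineOpen_mem_and_subset (X := X) (x := x) (U := UL x ⊓ UN x) ⟨hUL x, hUN x⟩
    have hηW : η ∈ W := (generic_specializes x).mem_open W.isOpen hxW
    obtain ⟨A, B, hA, hB, hfAB⟩ := exists_frac hW hηW (hf0 x)
    obtain ⟨C, D, hC, hD, hgCD⟩ := exists_frac hW hηW (hg0 x)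
    refine ⟨W, W.isOpen, hxW, ((((finite_bad hX hW hηW hA).union (finite_bad hX hW hηW hB)).union
      ((finite_bad hX hW hηW hC).union (finite_bad hX hW hηW hD))).preimage Subtype.val_injective.injOn).subset ?_⟩
    rintro ⟨ξ, hd, hh⟩ ⟨y, hy, hyW⟩
    have hξW : ξ ∈ W := (specializes_iff_mem_closure.2 hy).mem_open W.isOpen hyW
    by_contra hn
    simp only [Set.mem_preimage, Set.mem_union, Set.mem_setOf_eq, not_or, not_exists, not_and, not_not] at hn
    obtain ⟨a, ha⟩ := exists_unit_frame (heL x) (heL ξ) (hWU hξW).1 (hUL ξ)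
    obtain ⟨b, hb⟩ := exists_unit_frame (heN x) (heN ξ) (hWU hξW).2 (hUN ξ)
    refine hh ?_
    have key : ∀ (A B : Γ(X, W)) (z : X.residueField η) (c : (X.presheaf.stalk ξ)ˣ)
        (_ : IsUnit (X.presheaf.germ W ξ hξW A)) (_ : IsUnit (X.presheaf.germ W ξ hξW B)),
        ratSec hηW A / ratSec hηW B = z * ratMap ξ (c : X.presheaf.stalk ξ) →
          ∃ w : (X.presheaf.stalk ξ)ˣ, z = ratMap ξ (w : X.presheaf.stalk ξ) := by
      intro A B z c hA hB he
      refine ⟨hA.unit * hB.unit⁻¹ * c⁻¹, ?_⟩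
      have hc : ratMap ξ (c : X.presheaf.stalk ξ) ≠ 0 := (c.isUnit.map (ratMap ξ)).ne_zero
      rw [Units.val_mul, Units.val_mul, map_mul, map_mul, map_units_inv, map_units_inv,
        IsUnit.unit_spec, IsUnit.unit_spec, ratMap_germ hξW, ratMap_germ hξW, ← div_eq_mul_inv (ratSec _ A) (ratSec _ B), he]
      exact (mul_inv_cancel_right₀ hc z).symm
    obtain ⟨w, hw⟩ := key A B (f ξ) a (hn.1.1 hξW hd) (hn.1.2 hξW hd)
      (hfAB.symm.trans (coord_change (heL x) _ _ ha (hφ x) (hφ ξ)))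
    obtain ⟨w', hw'⟩ := key C D (g ξ) b (hn.2.1 hξW hd) (hn.2.2 hξW hd)
      (hgCD.symm.trans (coord_change (heN x) _ _ hb (hψ x) (hψ ξ)))
    show tameAt hX ξ (f ξ) (g ξ) = 1
    rw [hw, hw']
    exact tameAt_units hX hd w w'
  refine ⟨ι, fun i => i.1, fun i => h i.1, fun i => i.2.1,
    fun i => tameAt_ne_zero hX i.2.1 (hf0 _) (hg0 _), hloc, fun i hi => i.2.2 ?_, fun i hi => i.2.2 ?_, fun x => ?_⟩
  · show tameAt hX i.1 (f i.1) (g i.1) = 1
    have h1 : f i.1 = ratMap i.1 ((1 : (X.presheaf.stalk i.1)ˣ) : X.presheaf.stalk i.1) := by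
      rw [Units.val_one, map_one, ← map_one (X.residue η).hom]
      exact CycC1Lib.residue_coord_unique ((heL i.1).genAt _) ((hφ i.1).symm.trans (hi.trans (one_smul _ _).symm))
    rw [h1, tameAt_unit_left hX i.2.1 1 (hg0 _), Units.val_one, map_one, one_zpow]
  · show tameAt hX i.1 (f i.1) (g i.1) = 1
    have h1 : g i.1 = ratMap i.1 ((1 : (X.presheaf.stalk i.1)ˣ) : X.presheaf.stalk i.1) := by
      rw [Units.val_one, map_one, ← map_one (X.residue η).hom]
      exact CycC1Lib.residue_coord_unique ((heN i.1).genAt _) ((hψ i.1).symm.trans (hi.trans (one_smul _ _).symm))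
    rw [h1, tameAt_unit_right hX i.2.1 1 (hf0 _), Units.val_one, map_one, one_zpow, inv_one]
  let H : X → ℤ := fun ξ => if δ ξ + 1 = δ η then Cyc.divFun δ ξ (h ξ) x else 0
  let P : X → ℤ := fun ξ => Cyc.secDivFun δ L η s ξ * Cyc.secDivFun δ N ξ (u₀ ξ) x
  let Q : X → ℤ := fun ξ => Cyc.secDivFun δ N η t ξ * Cyc.secDivFun δ L ξ (v₀ ξ) x
  have hιsum : ∑ᶠ i : ι, Cyc.divFun δ i.1 (h i.1) x = ∑ᶠ ξ : X, H ξ := by
    symm
    rw [← finsum_mem_univ, finsum_mem_inter_support_eq _ Set.univ (Set.range (Subtype.val : ι → X)) ?sup,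
      finsum_mem_range Subtype.val_injective]
    · exact finsum_congr fun i => if_pos i.2.1
    case sup =>
      refine (Set.univ_inter _).trans (Set.inter_eq_right.2 ?_).symm
      intro ξ hξ
      simp only [H, Function.mem_support] at hξ
      split_ifs at hξ with hd
      · exact ⟨⟨ξ, hd, fun h1 => hξ (by rw [h1, divFun_one hX])⟩, rfl⟩
      · exact absurd rfl hξ
  rw [hιsum]
  show ∑ᶠ ξ : X, P ξ - ∑ᶠ ξ : X, Q ξ = ∑ᶠ ξ : X, H ξ
  have hdrop : ∀ {M M' : X.Modules} (σ : Cyc.secFibre M η) (ξ : X) (τ : Cyc.secFibre M' ξ),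
      Cyc.secDivFun δ M η σ ξ * Cyc.secDivFun δ M' ξ τ x ≠ 0 → δ ξ + 1 = δ η ∧ ξ ⤳ x ∧ δ x + 1 = δ ξ := by
    intro M M' σ ξ τ hne
    refine ⟨?_, ?_⟩
    · by_contra hn
      exact left_ne_zero_of_mul hne (CycC1Lib.secDivFun_eq_zero_of_not (fun h => hn h.2) _)
    · by_contra hn
      exact right_ne_zero_of_mul hne (CycC1Lib.secDivFun_eq_zero_of_not hn _)
  by_cases hx : δ x + 2 = δ η
  swap
  · have hP : ∀ ξ, P ξ = 0 := fun ξ => by
      by_contra hne
      obtain ⟨e1, -, e2⟩ := hdrop s ξ (u₀ ξ) hne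
      omega
    have hQ : ∀ ξ, Q ξ = 0 := fun ξ => by
      by_contra hne
      obtain ⟨e1, -, e2⟩ := hdrop t ξ (v₀ ξ) hne
      omega
    have hH : ∀ ξ, H ξ = 0 := fun ξ => by
      simp only [H]
      split_ifs with hd
      · rw [Cyc.divFun, dif_neg]
        rintro ⟨-, e⟩
        omega
      · rfl
    simp [hP, hQ, hH]
  obtain ⟨U, e, hxU, he⟩ := TwistLib.exists_genOn hL x
  obtain ⟨U', e', hxU', he'⟩ := TwistLib.exists_genOn hN x
  obtain ⟨φx, hφx⟩ := CycC1Lib.exists_coord (he.genAt ((generic_specializes x).mem_open U.isOpen hxU)) s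
  obtain ⟨ψx, hψx⟩ := CycC1Lib.exists_coord (he'.genAt ((generic_specializes x).mem_open U'.isOpen hxU')) t
  let F : X → ℤ := fun ξ => if δ ξ + 1 = δ η then
    Cyc.divFun δ ξ (tameAt hX ξ (X.residue η φx) (X.residue η ψx)) x else 0
  have key : ∀ ξ, H ξ = F ξ + (P ξ - Q ξ) := by
    intro ξ
    by_cases hc : δ ξ + 1 = δ η ∧ ξ ⤳ x
    swap
    · have hP : P ξ = 0 := by
        by_contra hne
        obtain ⟨e1, e2, -⟩ := hdrop s ξ (u₀ ξ) hne
        exact hc ⟨e1, e2⟩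
      have hQ : Q ξ = 0 := by
        by_contra hne
        obtain ⟨e1, e2, -⟩ := hdrop t ξ (v₀ ξ) hne
        exact hc ⟨e1, e2⟩
      rw [hP, hQ, sub_zero, add_zero]
      simp only [H, F]
      split_ifs with hd
      · rw [CycC1Lib.divFun_eq_zero_of_not_specializes fun h' => hc ⟨hd, h'⟩,
          CycC1Lib.divFun_eq_zero_of_not_specializes fun h' => hc ⟨hd, h'⟩]
      · rfl
    obtain ⟨hd, hsp⟩ := hc
    have hξU : ξ ∈ U := hsp.mem_open U.isOpen hxU
    have hξU' : ξ ∈ U' := hsp.mem_open U'.isOpen hxU'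
    obtain ⟨a, ha⟩ := exists_unit_frame he (heL ξ) hξU (hUL ξ)
    obtain ⟨b, hb⟩ := exists_unit_frame he' (heN ξ) hξU' (hUN ξ)
    have hfx := coord_change he hξU (hUL ξ) ha hφx (hφ ξ)
    have hgx := coord_change he' hξU' (hUN ξ) hb hψx (hψ ξ)
    have hPv : P ξ = Cyc.ordAt ξ η (generic_specializes ξ) (f ξ) * Cyc.divFun δ ξ (X.residue ξ (b : X.presheaf.stalk ξ)) x := by
      refine congrArg₂ (· * ·) ?_ ?_
      · rw [CycC1Lib.secDivFun_eq_divFun hX (heL ξ) (hUL ξ) _ (hφ ξ), Cyc.divFun, dif_pos ⟨generic_specializes ξ, hd⟩]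
      · refine CycC1Lib.secDivFun_eq_divFun hX he' hxU' hξU' ?_
        show fib N _ = _
        rw [hb]
        exact Submodule.Quotient.mk_smul _ _ _
    have hQv : Q ξ = Cyc.ordAt ξ η (generic_specializes ξ) (g ξ) * Cyc.divFun δ ξ (X.residue ξ (a : X.presheaf.stalk ξ)) x := by
      refine congrArg₂ (· * ·) ?_ ?_
      · rw [CycC1Lib.secDivFun_eq_divFun hX (heN ξ) (hUN ξ) _ (hψ ξ), Cyc.divFun, dif_pos ⟨generic_specializes ξ, hd⟩]
      · refine CycC1Lib.secDivFun_eq_divFun hX he hxU hξU ?_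
        show fib L _ = _
        rw [ha]
        exact Submodule.Quotient.mk_smul _ _ _
    rw [hPv, hQv]
    simp only [H, F, if_pos hd]
    rw [hfx, hgx]
    have hra : ratMap ξ (a : X.presheaf.stalk ξ) ≠ 0 := (a.isUnit.map (ratMap ξ)).ne_zero
    have hrb : ratMap ξ (b : X.presheaf.stalk ξ) ≠ 0 := (b.isUnit.map (ratMap ξ)).ne_zero
    have hresA : X.residue ξ (a : X.presheaf.stalk ξ) ≠ 0 := (a.isUnit.map (X.residue ξ).hom).ne_zero
    have hresB : X.residue ξ (b : X.presheaf.stalk ξ) ≠ 0 := (b.isUnit.map (X.residue ξ).hom).ne_zero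
    have n1 := tameAt_ne_zero hX hd (hf0 ξ) (hg0 ξ)
    rw [tameAt_mul_left hX hd (hf0 ξ) hra (mul_ne_zero (hg0 ξ) hrb), tameAt_mul_right hX hd (hf0 ξ) (hg0 ξ) hrb,
      tameAt_mul_right hX hd hra (hg0 ξ) hrb, tameAt_unit_left hX hd a (hg0 ξ), tameAt_unit_right hX hd b (hf0 ξ),
      tameAt_units hX hd a b, mul_one,
      divFun_mul hX (mul_ne_zero n1 (inv_ne_zero (zpow_ne_zero _ hresB))) (zpow_ne_zero _ hresA),
      divFun_mul hX n1 (inv_ne_zero (zpow_ne_zero _ hresB)), CycC1Lib.divFun_inv hX (zpow_ne_zero _ hresB),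
      CycC1Lib.divFun_zpow hX hresB, CycC1Lib.divFun_zpow hX hresA]
    ring
  have hfinP : (Function.support P).Finite := by
    obtain ⟨S, hS⟩ := CycC1Lib.exists_finset_generizations α x
    exact S.finite_toSet.subset fun ξ hξ => hS ξ (left_ne_zero_of_mul hξ) (hdrop s ξ (u₀ ξ) hξ).2.1
  have hfinQ : (Function.support Q).Finite := by
    obtain ⟨S, hS⟩ := CycC1Lib.exists_finset_generizations β x
    exact S.finite_toSet.subset fun ξ hξ => hS ξ (left_ne_zero_of_mul hξ) (hdrop t ξ (v₀ ξ) hξ).2.1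
  have hfinH : (Function.support H).Finite := by
    refine ((divFun_finite_index hX (fun i : ι => i.1) (fun i => h i.1) hloc x).image Subtype.val).subset ?_
    intro ξ hξ
    simp only [H, Function.mem_support] at hξ
    split_ifs at hξ with hd
    · exact ⟨⟨ξ, hd, fun h1 => hξ (by rw [h1, divFun_one hX])⟩, hξ, rfl⟩
    · exact absurd rfl hξ
  have hfinF : (Function.support F).Finite :=
    ((hfinH.union hfinP).union hfinQ).subset fun ξ hξ => by
      by_contra hn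
      simp only [Set.mem_union, Function.mem_support, not_or, not_not] at hn
      have := key ξ
      rw [hn.1.1, hn.1.2, hn.2, sub_zero, add_zero] at this
      exact hξ this.symm
  rw [finsum_congr key, finsum_add_distrib hfinF ((hfinP.union hfinQ).subset (Function.support_sub _ _)),
    finsum_sub_distrib hfinP hfinQ,
    show ∑ᶠ ξ : X, F ξ = 0 from sum_divFun_tameAt hX hx (CycC1Lib.residue_coord_ne_zero (he.genAt _) hs hφx)
      (CycC1Lib.residue_coord_ne_zero (he'.genAt _) ht hψx), zero_add]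


omit [IsIntegral X] in
theorem frame_ne_zero {M : X.Modules} {U : X.Opens} {e : Γ(M, U)} (he : AmpleLib.GenOn M e) {ξ : X} (hU : ξ ∈ U) :
    fib M (M.presheaf.germ U ξ hU e) ≠ 0 := by
  intro h
  have h1 := (CycC1Lib.fib_smul_eq_zero_iff (he.genAt hU) 1).1 (by rw [one_smul]; exact h)
  rw [map_one] at h1
  exact one_ne_zero h1

/-- The commutation of the two caps with the divisors of rational sections, on an integral scheme. -/
theorem c1Cap_secDiv_comm (hX : Cyc.IsSetup X δ) {n : ℤ} (hn : δ η = n) {L N : X.Modules}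
    (hL : PicF.IsInvertible L) (hN : PicF.IsInvertible N) {s : Cyc.secFibre L η} (hs : s ≠ 0)
    {t : Cyc.secFibre N η} (ht : t ≠ 0) {u : (ξ : X) → Cyc.secFibre N ξ} (hu : ∀ ξ, u ξ ≠ 0)
    {v : (ξ : X) → Cyc.secFibre L ξ} (hv : ∀ ξ, v ξ ≠ 0) (γ₁ γ₂ : AlgebraicCycle X ℤ)
    (h₁ : ⇑γ₁ = Cyc.c1CapFun δ N (Cyc.secDivFun δ L η s) u)
    (h₂ : ⇑γ₂ = Cyc.c1CapFun δ L (Cyc.secDivFun δ N η t) v) : Cyc.RatEquiv δ (n - 2) γ₁ γ₂ := by
  classical
  choose UL eL hUL heL using fun ξ : X => TwistLib.exists_genOn hL ξ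
  choose UN eN hUN heN using fun ξ : X => TwistLib.exists_genOn hN ξ
  have hu₀ := fun ξ => frame_ne_zero (heN ξ) (hUN ξ)
  have hv₀ := fun ξ => frame_ne_zero (heL ξ) (hUL ξ)
  let α := secDivCyc hX hL hs
  let β := secDivCyc hX hN ht
  have hα : α ∈ Cyc.Zk X δ (n - 2 + 1) := secDivCyc_mem_Zk hX hL hs (by omega)
  have hβ : β ∈ Cyc.Zk X δ (n - 2 + 1) := secDivCyc_mem_Zk hX hN ht (by omega)
  let γ₁' := CycC1Lib.capCyc hX hN α hu₀
  let γ₂' := CycC1Lib.capCyc hX hL β hv₀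
  refine ratEquiv_trans hX (β := γ₁') (CycC1Lib.ratEquiv_c1Cap hX hN α hα hu hu₀ γ₁ γ₁' h₁ rfl) ?_
  refine ratEquiv_trans hX (β := γ₂') ?_ (CycC1Lib.ratEquiv_c1Cap hX hL β hβ hv₀ hv γ₂' γ₂ rfl h₂)
  obtain ⟨ι, pts, fn, h1, h2, h3, -, -, h5⟩ := secDiv_comm_family hX hL hN hs ht UL eL hUL heL UN eN hUN heN
  exact ⟨ι, pts, fn, fun i => by have := h1 i; omega, h2, h3, h5⟩

end CycCommLib

end
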