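import Mathlib
import Groth.Prelude.Def_C1
import Groth.Agent.CycCommLib.Comm
import Groth.Agent.CycGysLib.Basic
import Groth.Agent.AmpleDevLib.Pull

/-!
# Commutativity at a point
-/

set_option autoImplicit false
set_option linter.style.haveILetI false
set_option linter.unusedSectionVars false

universe u

open AlgebraicGeometry CategoryTheory IsLocalRing Opposite

noncomputable section

namespace CycCommLib

open CycC1Lib (fib pbFib)

variable {X : Scheme.{u}} {δ : X → ℤ}

theorem pbFib_frame {W : Scheme.{u}} (f : W ⟶ X) {L : X.Modules} {U : X.Opens} {e : Γ(L, U)}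
    (he : AmpleLib.GenOn L e) {w : W} (hw : f w ∈ U) :
    pbFib f L w (fib L (L.presheaf.germ U (f w) hw e)) =
      fib (KFlatLib.pb f L) ((KFlatLib.pb f L).presheaf.germ (f ⁻¹ᵁ U) w hw (KFlatLib.puSec f e)) := by
  rw [CycC1Lib.pbFib_coord f hw (he.genAt hw) (φ := 1) (one_smul _ _).symm, map_one, one_smul]

theorem pbFib_congr {W : Scheme.{u}} (f : W ⟶ X) {L : X.Modules} (w : W) {v v' : Cyc.secFibre L (f w)} (h : v = v') :
    pbFib f L w v = pbFib f L w v' := by rw [h]

/-- The commutation of the two caps with the divisors of rational sections at a point, in given frames. -/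
theorem secDiv_comm_point (hX : Cyc.IsSetup X δ) (ξ₀ : X) {L N : X.Modules}
    (hL : PicF.IsInvertible L) (hN : PicF.IsInvertible N) {s : Cyc.secFibre L ξ₀} (hs : s ≠ 0)
    {t : Cyc.secFibre N ξ₀} (ht : t ≠ 0)
    (UL : X → X.Opens) (eL : (ξ : X) → Γ(L, UL ξ)) (hUL : ∀ ξ, ξ ∈ UL ξ) (heL : ∀ ξ, AmpleLib.GenOn L (eL ξ))
    (UN : X → X.Opens) (eN : (ξ : X) → Γ(N, UN ξ)) (hUN : ∀ ξ, ξ ∈ UN ξ) (heN : ∀ ξ, AmpleLib.GenOn N (eN ξ)) :
    ∃ (ι : Type u) (pts : ι → X) (fn : (i : ι) → X.residueField (pts i)) (hsp : ∀ i, ξ₀ ⤳ pts i),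
      (∀ i, δ (pts i) + 1 = δ ξ₀) ∧ (∀ i, fn i ≠ 0) ∧
      (∀ x : X, ∃ U : Set X, IsOpen U ∧ x ∈ U ∧ {i | (closure {pts i} ∩ U).Nonempty}.Finite) ∧
      (∀ i, s ≠ fib L (L.presheaf.germ (UL (pts i)) ξ₀
        ((hsp i).mem_open (UL (pts i)).isOpen (hUL (pts i))) (eL (pts i)))) ∧
      (∀ i, t ≠ fib N (N.presheaf.germ (UN (pts i)) ξ₀
        ((hsp i).mem_open (UN (pts i)).isOpen (hUN (pts i))) (eN (pts i)))) ∧
      ∀ x : X, Cyc.c1CapFun δ N (Cyc.secDivFun δ L ξ₀ s)
            (fun ξ => fib N (N.presheaf.germ (UN ξ) ξ (hUN ξ) (eN ξ))) x -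
          Cyc.c1CapFun δ L (Cyc.secDivFun δ N ξ₀ t)
            (fun ξ => fib L (L.presheaf.germ (UL ξ) ξ (hUL ξ) (eL ξ))) x =
        ∑ᶠ i, Cyc.divFun δ (pts i) (fn i) x := by
  classical
  haveI := hX.1
  obtain ⟨W, j, _, _, hW⟩ := DevissLib.exists_integral_closed (T := closure ({ξ₀} : Set X)) isClosed_closure
    isIrreducible_singleton.closure
  have hgW : j (genericPoint W) = ξ₀ := by
    refine (((genericPoint_spec W).image j.continuous).eq ?_)
    show closure _ = closure _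
    rw [Set.image_univ, hW, closure_closure]
  subst hgW
  obtain ⟨hsW, -⟩ := CycPushLib.setup_of_closedImmersion j hX
  haveI := hsW.1
  let δW : W → ℤ := fun w => δ (j w)
  have hout : ∀ (M : X.Modules) (σ : Cyc.secFibre M (j (genericPoint W))) (x : X), x ∉ Set.range j →
      Cyc.secDivFun δ M (j (genericPoint W)) σ x = 0 := fun M σ x hx =>
    CycC1Lib.secDivFun_eq_zero_of_not (fun h => hx (by rw [hW]; exact specializes_iff_mem_closure.1 h.1)) _
  obtain ⟨ι, pts, fn, h1, h2, h3, h4, h4', h5⟩ := secDiv_comm_family (X := W) (δ := δW) hsW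
    (AmpleDevLib.isInvertible_pb j hL) (AmpleDevLib.isInvertible_pb j hN)
    (s := pbFib j L (genericPoint W) s) (CycC1Lib.pbFib_ne_zero j hL hs)
    (t := pbFib j N (genericPoint W) t) (CycC1Lib.pbFib_ne_zero j hN ht)
    (fun w => j ⁻¹ᵁ UL (j w)) (fun w => KFlatLib.puSec j (eL (j w))) (fun w => hUL (j w))
    (fun w => TwistLib.genOn_of_genAt fun z hz => TwistLib.GenAt.puSec j ((heL (j w)).genAt hz))
    (fun w => j ⁻¹ᵁ UN (j w)) (fun w => KFlatLib.puSec j (eN (j w))) (fun w => hUN (j w))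
    (fun w => TwistLib.genOn_of_genAt fun z hz => TwistLib.GenAt.puSec j ((heN (j w)).genAt hz))
  choose g hg using fun i => (CycPushLib.residueFieldMap_bijective j (pts i)).2 (fn i)
  have hg0 : ∀ i, g i ≠ 0 := fun i h => h2 i (by rw [← hg i, h, map_zero])
  refine ⟨ι, fun i => j (pts i), g, fun i => (generic_specializes (pts i)).map j.continuous, h1, hg0, fun x => ?_,
    fun i hi => h4 i ((pbFib_congr j (genericPoint W) hi).trans (pbFib_frame j (heL (j (pts i))) _)),
    fun i hi => h4' i ((pbFib_congr j (genericPoint W) hi).trans (pbFib_frame j (heN (j (pts i))) _)), fun x => ?_⟩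
  · by_cases hx : x ∈ Set.range j
    · obtain ⟨w, rfl⟩ := hx
      obtain ⟨U, hU, hwU, hfin⟩ := h3 w
      obtain ⟨V, hV, hVU⟩ := j.isEmbedding.isInducing.isOpen_iff.1 hU
      refine ⟨V, hV, (show w ∈ j ⁻¹' V by rw [hVU]; exact hwU), hfin.subset ?_⟩
      rintro i ⟨z, hz, hzV⟩
      obtain ⟨z', rfl⟩ : z ∈ Set.range j := by
        refine closure_minimal ?_ j.isClosedEmbedding.isClosed_range hz
        exact Set.singleton_subset_iff.2 ⟨_, rfl⟩
      refine ⟨z', ?_, hVU ▸ hzV⟩
      exact specializes_iff_mem_closure.1 (j.isEmbedding.isInducing.specializes_iff.1 (specializes_iff_mem_closure.2 hz))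
    · refine ⟨(Set.range j)ᶜ, j.isClosedEmbedding.isClosed_range.isOpen_compl, hx, Set.Finite.subset Set.finite_empty ?_⟩
      rintro i ⟨z, hz, hzV⟩
      exact hzV (closure_minimal (Set.singleton_subset_iff.2 (Set.mem_range_self (pts i))) j.isClosedEmbedding.isClosed_range hz)
  by_cases hx : x ∈ Set.range j
  swap
  · have hzero : ∀ (M M' : X.Modules) (σ : Cyc.secFibre M (j (genericPoint W))) (τ : (ξ : X) → Cyc.secFibre M' ξ),
        Cyc.c1CapFun δ M' (Cyc.secDivFun δ M (j (genericPoint W)) σ) τ x = 0 := by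
      intro M M' σ τ
      refine finsum_eq_zero_of_forall_eq_zero fun ξ => ?_
      by_contra hne
      obtain ⟨w, rfl⟩ : ξ ∈ Set.range j := by
        by_contra hn
        exact left_ne_zero_of_mul hne (hout M σ ξ hn)
      have hsp : j w ⤳ x := by
        by_contra hn
        exact right_ne_zero_of_mul hne (CycC1Lib.secDivFun_eq_zero_of_not (fun h => hn h.1) _)
      exact hx (hsp.mem_closed j.isClosedEmbedding.isClosed_range ⟨w, rfl⟩)
    rw [hzero, hzero, sub_zero]
    refine (finsum_eq_zero_of_forall_eq_zero fun i => ?_).symm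
    exact CycC1Lib.divFun_eq_zero_of_not_specializes
      (fun h => hx (h.mem_closed j.isClosedEmbedding.isClosed_range ⟨_, rfl⟩)) _
  obtain ⟨w, rfl⟩ := hx
  have hu := fun ξ => frame_ne_zero (heN ξ) (hUN ξ)
  have hv := fun ξ => frame_ne_zero (heL ξ) (hUL ξ)
  rw [CycGysLib.c1CapFun_restrict j hX hN _ (hout L s) hu w,
    CycGysLib.c1CapFun_restrict j hX hL _ (hout N t) hv w]
  simp only [pbFib_frame j (heN _) (hUN _), pbFib_frame j (heL _) (hUL _),
    ← CycGysLib.secDivFun_pbFib j hX hL (genericPoint W) hs, ← CycGysLib.secDivFun_pbFib j hX hN (genericPoint W) ht]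
  refine (h5 w).trans (finsum_congr fun i => ?_)
  rw [CycPushLib.divFun_closedImmersion j hX rfl (hg0 i), CycPushLib.gpull_rfl, hg i]

end CycCommLib

end
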