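import Mathlib
import Groth.Prelude.Def_C1
import Groth.Agent.CycCommLib.Point

/-!
# Families of principal divisors and frames
-/

set_option autoImplicit false
set_option linter.style.haveILetI false
set_option linter.unusedSectionVars false

universe u

open AlgebraicGeometry CategoryTheory IsLocalRing Opposite

noncomputable section

namespace CycCommLib

open CycC1Lib (fib pbFib)

variable {X : Scheme.{u}} {δ : X → ℤ}

/-- `F` is the sum of a locally finite family of principal divisors at points of dimension `m` satisfying `P`. -/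
def DivFamily (δ : X → ℤ) (m : ℤ) (P : X → Prop) (F : X → ℤ) : Prop :=
  ∃ (ι : Type u) (pts : ι → X) (fn : (i : ι) → X.residueField (pts i)),
    (∀ i, δ (pts i) = m) ∧ (∀ i, fn i ≠ 0) ∧
    (∀ x : X, ∃ U : Set X, IsOpen U ∧ x ∈ U ∧ {i | (closure {pts i} ∩ U).Nonempty}.Finite) ∧
    (∀ i, P (pts i)) ∧ ∀ x : X, F x = ∑ᶠ i, Cyc.divFun δ (pts i) (fn i) x

theorem DivFamily.ratEquivZero {k : ℤ} {P : X → Prop} {γ : AlgebraicCycle X ℤ}
    (h : DivFamily δ (k + 1) P ⇑γ) : Cyc.RatEquivZero δ k γ := by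
  obtain ⟨ι, pts, fn, h1, h2, h3, -, h5⟩ := h
  exact ⟨ι, pts, fn, h1, h2, h3, h5⟩

theorem DivFamily.mono {m : ℤ} {P Q : X → Prop} {F : X → ℤ} (h : DivFamily δ m P F) (hPQ : ∀ x, P x → Q x) :
    DivFamily δ m Q F := by
  obtain ⟨ι, pts, fn, h1, h2, h3, h4, h5⟩ := h
  exact ⟨ι, pts, fn, h1, h2, h3, fun i => hPQ _ (h4 i), h5⟩

theorem DivFamily.neg (hX : Cyc.IsSetup X δ) {m : ℤ} {P : X → Prop} {F : X → ℤ} (h : DivFamily δ m P F) :
    DivFamily δ m P (fun x => - F x) := by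
  obtain ⟨ι, pts, fn, h1, h2, h3, h4, h5⟩ := h
  refine ⟨ι, pts, fun i => (fn i)⁻¹, h1, fun i => inv_ne_zero (h2 i), h3, h4, fun x => ?_⟩
  show - F x = _
  rw [h5, ← finsum_neg_distrib]
  exact finsum_congr fun i => (CycC1Lib.divFun_inv hX (h2 i) x).symm

/-- The family of a locally finite combination. -/
theorem DivFamily.sigma (hX : Cyc.IsSetup X δ) {m : ℤ} {P : X → Prop} {J : Type u} (ctr : J → X) (c : J → ℤ)
    (hloc : ∀ x : X, ∃ U : Set X, IsOpen U ∧ x ∈ U ∧ {j | (closure {ctr j} ∩ U).Nonempty}.Finite)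
    (F : J → X → ℤ) (hF : ∀ j, DivFamily δ m (fun p => ctr j ⤳ p ∧ P p) (F j)) (G : X → ℤ)
    (hG : ∀ x, G x = ∑ᶠ j, c j * F j x) : DivFamily δ m P G := by
  classical
  choose ι pts fn h1 h2 h3 h4 h5 using hF
  refine ⟨Σ j, ι j, fun p => pts p.1 p.2, fun p => fn p.1 p.2 ^ c p.1, fun p => h1 p.1 p.2,
    fun p => zpow_ne_zero _ (h2 p.1 p.2), fun x => ?_, fun p => (h4 p.1 p.2).2, fun x => ?_⟩
  · obtain ⟨U, hU, hxU, hfin⟩ := hloc x
    choose V hV hxV hVfin using fun j => h3 j x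
    refine ⟨U ∩ ⋂ j ∈ hfin.toFinset, V j, hU.inter (isOpen_biInter_finset fun j _ => hV j),
      ⟨hxU, Set.mem_iInter₂.2 fun j _ => hxV j⟩,
      (hfin.biUnion fun j _ => (hVfin j).image (Sigma.mk j)).subset ?_⟩
    rintro ⟨j, i⟩ ⟨z, hz, hzU, hzV⟩
    have hj : (closure {ctr j} ∩ U).Nonempty :=
      ⟨z, specializes_iff_mem_closure.1 ((h4 j i).1.trans (specializes_iff_mem_closure.2 hz)), hzU⟩
    exact Set.mem_biUnion (x := j) hj ⟨i, ⟨z, hz, Set.mem_iInter₂.1 hzV j (hfin.mem_toFinset.2 hj)⟩, rfl⟩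
  · obtain ⟨U, hU, hxU, hfin⟩ := hloc x
    have hsp : ∀ j i, Cyc.divFun δ (pts j i) (fn j i) x ≠ 0 → (closure {ctr j} ∩ U).Nonempty := fun j i hne =>
      ⟨x, specializes_iff_mem_closure.1 ((h4 j i).1.trans (by
        by_contra hn
        exact hne (CycC1Lib.divFun_eq_zero_of_not_specializes hn _))), hxU⟩
    let S := hfin.toFinset
    have hinner : ∀ j, (Function.support fun i => Cyc.divFun δ (pts j i) (fn j i) x).Finite := fun j =>
      divFun_finite_index hX _ _ (h3 j) x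
    let T : J → Finset (Σ j, ι j) := fun j => (hinner j).toFinset.map ⟨Sigma.mk j, sigma_mk_injective⟩
    rw [hG, finsum_eq_sum_of_support_subset _ (s := S) fun j hj => ?_,
      finsum_eq_sum_of_support_subset _ (s := S.biUnion T) fun p hp => ?_, Finset.sum_biUnion]
    · refine Finset.sum_congr rfl fun j _ => ?_
      rw [h5, Finset.sum_map, finsum_eq_sum_of_support_subset _ (s := (hinner j).toFinset) (by simp), Finset.mul_sum]
      exact Finset.sum_congr rfl fun i _ => (CycC1Lib.divFun_zpow hX (h2 j i) (c j) x).symm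
    · intro a _ b _ hab
      refine Finset.disjoint_left.2 fun p hpa hpb => hab ?_
      obtain ⟨ia, -, ha⟩ := Finset.mem_map.1 hpa
      obtain ⟨ib, -, hb⟩ := Finset.mem_map.1 hpb
      exact congrArg Sigma.fst (ha.trans hb.symm)
    · obtain ⟨j, i⟩ := p
      rw [Function.mem_support, CycC1Lib.divFun_zpow hX (h2 j i)] at hp
      have hne := right_ne_zero_of_mul hp
      rw [Finset.mem_coe, Finset.mem_biUnion]
      exact ⟨j, hfin.mem_toFinset.2 (hsp j i hne), Finset.mem_map.2 ⟨i, (hinner j).mem_toFinset.2 hne, rfl⟩⟩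
    · rw [Finset.mem_coe, Set.Finite.mem_toFinset]
      have h' := right_ne_zero_of_mul hj
      rw [h5] at h'
      obtain ⟨i, hi⟩ := exists_ne_zero_of_finsum_mem_ne_zero (s := Set.univ)
        (f := fun i => Cyc.divFun δ (pts j i) (fn j i) x) (by rw [finsum_mem_univ]; exact h')
      exact hsp j i hi.2

/-- A family of points of a closed subscheme gives a rational equivalence on it. -/
theorem DivFamily.restrict (hX : Cyc.IsSetup X δ) {D : Scheme.{u}} (i : D ⟶ X) [IsClosedImmersion i] {k : ℤ}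
    {F : X → ℤ} (h : DivFamily δ (k + 1) (fun p => p ∈ Set.range i) F) {γ : AlgebraicCycle D ℤ}
    (hγ : ∀ d, γ d = F (i d)) : Cyc.RatEquivZero (fun d => δ (i d)) k γ := by
  obtain ⟨ι, pts, fn, h1, h2, h3, h4, h5⟩ := h
  choose d hd using h4
  let g : (a : ι) → D.residueField (d a) := fun a => CycDivLib.gpull i (hd a) (fn a)
  refine ⟨ι, d, g, fun a => by show δ (i (d a)) = _; rw [hd a]; exact h1 a, fun a => ?_, fun z => ?_, fun z => ?_⟩
  · intro h0
    exact h2 a ((CycPushLib.gpull_bijective i (hd a)).1 (h0.trans (map_zero _).symm))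
  · obtain ⟨U, hU, hzU, hfin⟩ := h3 (i z)
    refine ⟨i ⁻¹' U, hU.preimage i.continuous, hzU, hfin.subset ?_⟩
    rintro a ⟨y, hy, hyU⟩
    refine ⟨i y, ?_, hyU⟩
    rw [← hd a]
    exact specializes_iff_mem_closure.1 ((specializes_iff_mem_closure.2 hy).map i.continuous)
  · rw [hγ, h5]
    exact finsum_congr fun a => CycPushLib.divFun_closedImmersion i hX (hd a) (h2 a) z

/-- A choice of local generators at all points. -/
structure Frames (L : X.Modules) where
  /-- the neighbourhood -/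
  U : X → X.Opens
  /-- the generator -/
  e : (ξ : X) → Γ(L, U ξ)
  mem : ∀ ξ, ξ ∈ U ξ
  gen : ∀ ξ, AmpleLib.GenOn L (e ξ)

/-- The rational sections of a choice of local generators. -/
def Frames.sec {L : X.Modules} (Φ : Frames L) (ξ : X) : Cyc.secFibre L ξ :=
  fib L (L.presheaf.germ (Φ.U ξ) ξ (Φ.mem ξ) (Φ.e ξ))

/-- The value at a generization of the generator chosen at a point. -/
def Frames.secAt {L : X.Modules} (Φ : Frames L) {ξ p : X} (h : ξ ⤳ p) : Cyc.secFibre L ξ :=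
  fib L (L.presheaf.germ (Φ.U p) ξ (h.mem_open (Φ.U p).isOpen (Φ.mem p)) (Φ.e p))

theorem Frames.sec_ne_zero {L : X.Modules} (Φ : Frames L) (ξ : X) : Φ.sec ξ ≠ 0 :=
  frame_ne_zero (Φ.gen ξ) (Φ.mem ξ)

theorem exists_frames {L : X.Modules} (hL : PicF.IsInvertible L) : Nonempty (Frames L) := by
  choose U e hU he using fun ξ : X => TwistLib.exists_genOn hL ξ
  exact ⟨⟨U, e, hU, he⟩⟩

/-- Generators adapted to a section: the section itself away from its zero scheme. -/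
theorem exists_frames_of_section {L : X.Modules} (hL : PicF.IsInvertible L) {D : Scheme.{u}} (i : D ⟶ X)
    [IsClosedImmersion i] {s : L.presheaf.obj (Opposite.op ⊤)} (hD : Cyc.IsZeroSchemeOf i L s) :
    ∃ Φ : Frames L, ∀ (p : X), p ∉ Set.range i → ∀ {ξ : X} (h : ξ ⤳ p),
      Φ.secAt h = fib L (L.presheaf.germ ⊤ ξ trivial s) := by
  classical
  let O : X.Opens := ⟨(Set.range i)ᶜ, i.isClosedEmbedding.isClosed_range.isOpen_compl⟩
  let eO : Γ(L, O) := L.presheaf.map (homOfLE (le_top : O ≤ ⊤)).op s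
  have hgO : AmpleLib.GenOn L eO := TwistLib.genOn_of_genAt fun z hz => by
    obtain ⟨U, e, hzU, he⟩ := TwistLib.exists_genOn hL z
    obtain ⟨a, ha⟩ := (he.genAt hzU).2 (L.presheaf.germ ⊤ z trivial s)
    have hu : IsUnit a := by
      by_contra hu
      refine hz (hD.1.ge ?_)
      show fib L _ = 0
      rw [← ha, fib, Submodule.Quotient.mk_smul, CycC1Lib.fib_smul_eq_zero_iff (he.genAt hzU)]
      exact (residue_eq_zero_iff _).2 ((mem_maximalIdeal _).2 hu)
    obtain ⟨b, hb⟩ := hu.exists_right_inv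
    have hge : L.presheaf.germ O z hz eO = a • L.presheaf.germ U z hzU e := by
      rw [TopCat.Presheaf.germ_res_apply]
      exact ha.symm
    show Function.Bijective fun c : X.presheaf.stalk z => c • L.presheaf.germ O z hz eO
    rw [hge]
    simp only [smul_smul]
    exact (he.genAt hzU).comp ⟨fun c c' h => hu.mul_left_injective h,
      fun c => ⟨c * b, by show c * b * a = c; rw [mul_assoc, mul_comm b a, hb, mul_one]⟩⟩
  choose U e hU he using fun ξ : X => TwistLib.exists_genOn hL ξ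
  let F : (ξ : X) → Σ V : X.Opens, Γ(L, V) := fun ξ => if ξ ∈ O then ⟨O, eO⟩ else ⟨U ξ, e ξ⟩
  have hF : ∀ ξ, ξ ∈ (F ξ).1 ∧ AmpleLib.GenOn L (F ξ).2 := fun ξ => by
    by_cases h : ξ ∈ O
    · rw [show F ξ = ⟨O, eO⟩ from if_pos h]
      exact ⟨h, hgO⟩
    · rw [show F ξ = ⟨U ξ, e ξ⟩ from if_neg h]
      exact ⟨hU ξ, he ξ⟩
  let Φ : Frames L :=
    { U := fun ξ => (F ξ).1
      e := fun ξ => (F ξ).2
      mem := fun ξ => (hF ξ).1
      gen := fun ξ => (hF ξ).2 }
  refine ⟨Φ, fun p hp ξ h => ?_⟩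
  have key : ∀ (V : Σ V : X.Opens, Γ(L, V)) (_ : V = ⟨O, eO⟩) (hV : ξ ∈ V.1),
      fib L (L.presheaf.germ V.1 ξ hV V.2) = fib L (L.presheaf.germ ⊤ ξ trivial s) := by
    rintro V rfl hV
    exact congrArg (fib L) (TopCat.Presheaf.germ_res_apply _ _ _ _ _)
  exact key (F p) (if_pos hp) _

/-- Generators of the structure sheaf. -/
def unitFrames (X : Scheme.{u}) : Frames (Coh.structureModule X) where
  U := fun _ => ⊤
  e := fun _ => (1 : Γ(X, ⊤))
  mem := fun _ => trivial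
  gen := fun _ => AmpleLib.one_genOn (X := X) ⊤

/-- The divisor of a rational section at a point, as a cycle. -/
def secDivCycAt (hX : Cyc.IsSetup X δ) {L : X.Modules} (hL : PicF.IsInvertible L) (ξ : X) {s : Cyc.secFibre L ξ}
    (hs : s ≠ 0) : AlgebraicCycle X ℤ where
  toFun := Cyc.secDivFun δ L ξ s
  supportWithinDomain' := by simp
  supportLocallyFiniteWithinDomain' x _ := by
    obtain ⟨U, e, hxU, he⟩ := TwistLib.exists_genOn hL x
    obtain ⟨V, hV, hxV, hVU⟩ := exists_isAffineOpen_mem_and_subset (X := X) (x := x) (U := U) hxU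
    by_cases hξ : ξ ∈ U
    · obtain ⟨φ, hφ⟩ := CycC1Lib.exists_coord (he.genAt hξ) s
      refine ⟨V, V.isOpen.mem_nhds hxV,
        (CycPushLib.finite_divFun_support (δ := δ) hX ξ (CycC1Lib.residue_coord_ne_zero (he.genAt hξ) hs hφ) hV).subset ?_⟩
      rintro y ⟨hyV, hy⟩
      refine ⟨hyV, ?_⟩
      rw [← CycC1Lib.secDivFun_eq_divFun hX he (hVU hyV) hξ hφ]
      exact hy
    · refine ⟨V, V.isOpen.mem_nhds hxV, Set.Finite.subset Set.finite_empty ?_⟩
      rintro y ⟨hyV, hy⟩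
      exact hy (CycC1Lib.secDivFun_eq_zero_of_not (fun h => hξ (h.1.mem_open U.isOpen (hVU hyV))) _)

/-- The cap with a finite combination of cycles. -/
theorem c1CapFun_comb {L : X.Modules} {v : (ξ : X) → Cyc.secFibre L ξ} {x : X} {J : Type*} (S : Finset J)
    (c : J → ℤ) (G : J → AlgebraicCycle X ℤ) (α : X → ℤ)
    (h : ∀ ξ, ξ ⤳ x → α ξ = ∑ j ∈ S, c j * G j ξ) :
    Cyc.c1CapFun δ L α v x = ∑ j ∈ S, c j * Cyc.c1CapFun δ L ⇑(G j) v x := by
  classical
  choose T hT using fun j => CycC1Lib.exists_finset_generizations (G j) x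
  let U := S.biUnion T
  have hU : ∀ ξ, α ξ ≠ 0 → ξ ⤳ x → ξ ∈ U := fun ξ hne hsp => by
    rw [h ξ hsp] at hne
    obtain ⟨j, hj, hj'⟩ := Finset.exists_ne_zero_of_sum_ne_zero hne
    exact Finset.mem_biUnion.2 ⟨j, hj, hT j ξ (right_ne_zero_of_mul hj') hsp⟩
  rw [CycC1Lib.c1CapFun_eq_sum hU]
  have hG : ∀ j ∈ S, Cyc.c1CapFun δ L ⇑(G j) v x = ∑ ξ ∈ U, G j ξ * Cyc.secDivFun δ L ξ (v ξ) x :=
    fun j hj => CycC1Lib.c1CapFun_eq_sum fun ξ hne hsp => Finset.mem_biUnion.2 ⟨j, hj, hT j ξ hne hsp⟩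
  refine Eq.trans ?_ (Finset.sum_congr rfl fun j hj => (by rw [hG j hj, Finset.mul_sum] :
    c j * Cyc.c1CapFun δ L ⇑(G j) v x = ∑ ξ ∈ U, c j * (G j ξ * Cyc.secDivFun δ L ξ (v ξ) x))).symm
  rw [Finset.sum_comm]
  refine Finset.sum_congr rfl fun ξ _ => ?_
  by_cases hsp : ξ ⤳ x
  · rw [h ξ hsp, Finset.sum_mul]
    exact Finset.sum_congr rfl fun j _ => mul_assoc _ _ _
  · simp [CycC1Lib.secDivFun_eq_zero_of_not (L := L) (δ := δ) (fun h' => hsp h'.1) (v ξ)]

/-- The two caps at a point, in frames, with the location of the points of the family. -/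
theorem comm_point (hX : Cyc.IsSetup X δ) (ξ₀ : X) {L N : X.Modules} (hL : PicF.IsInvertible L)
    (hN : PicF.IsInvertible N) {s : Cyc.secFibre L ξ₀} (hs : s ≠ 0) {t : Cyc.secFibre N ξ₀} (ht : t ≠ 0)
    (ΦL : Frames L) (ΦN : Frames N) :
    DivFamily δ (δ ξ₀ - 1) (fun p => ξ₀ ⤳ p ∧ ∀ h : ξ₀ ⤳ p, s ≠ ΦL.secAt h ∧ t ≠ ΦN.secAt h)
      (fun x => Cyc.c1CapFun δ N (Cyc.secDivFun δ L ξ₀ s) ΦN.sec x -
        Cyc.c1CapFun δ L (Cyc.secDivFun δ N ξ₀ t) ΦL.sec x) := by
  obtain ⟨ι, pts, fn, hsp, h1, h2, h3, h4, h4', h5⟩ :=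
    secDiv_comm_point hX ξ₀ hL hN hs ht ΦL.U ΦL.e ΦL.mem ΦL.gen ΦN.U ΦN.e ΦN.mem ΦN.gen
  exact ⟨ι, pts, fn, fun i => by have := h1 i; omega, h2, h3,
    fun i => ⟨hsp i, fun _ => ⟨h4 i, h4' i⟩⟩, h5⟩

end CycCommLib

end
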