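import Mathlib
import Groth.Prelude.Def_C1
import Groth.Agent.CycCommLib.Family
import Groth.Agent.CycC1Lib.Cap

/-!
# The caps pass to rational equivalence and commute
-/

set_option autoImplicit false
set_option linter.style.haveILetI false
set_option linter.unusedSectionVars false

universe u

open AlgebraicGeometry CategoryTheory IsLocalRing Opposite

noncomputable section

namespace CycCommLib

open CycC1Lib (fib pbFib)

variable {X : Scheme.{u}} {δ : X → ℤ}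

theorem structureModule_invertible (X : Scheme.{u}) : PicF.IsInvertible (Coh.structureModule X) := fun x =>
  ⟨⊤, trivial, ⟨Scheme.Modules.restrictUnitIso _⟩⟩

theorem secDivFun_one (hX : Cyc.IsSetup X δ) (ξ x : X) :
    Cyc.secDivFun δ (Coh.structureModule X) ξ ((unitFrames X).sec ξ) x = 0 := by
  haveI := hX.1
  have h : (unitFrames X).sec ξ = (1 : X.presheaf.stalk ξ) •
      fib (Coh.structureModule X) ((Coh.structureModule X).presheaf.germ ⊤ ξ trivial (1 : Γ(X, ⊤))) := (one_smul _ _).symm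
  rw [CycC1Lib.secDivFun_eq_divFun hX (AmpleLib.one_genOn (X := X) ⊤) trivial trivial h, map_one]
  by_cases hh : ξ ⤳ x ∧ δ x + 1 = δ ξ
  · rw [Cyc.divFun, dif_pos hh]
    have h1 := CycDivLib.ordAt_mul hh.1 (CycPushLib.dimBetween_le_one_of_drop hX hh.1 hh.2)
      (one_ne_zero (α := X.residueField ξ)) one_ne_zero
    rw [mul_one] at h1
    omega
  · rw [Cyc.divFun, dif_neg hh]

/-- The cap with a principal divisor is a family of principal divisors. -/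
theorem div_family (hX : Cyc.IsSetup X δ) (ξ₀ : X) {f : X.residueField ξ₀} (hf : f ≠ 0) {L : X.Modules}
    (hL : PicF.IsInvertible L) (ΦL : Frames L) :
    DivFamily δ (δ ξ₀ - 1) (fun p => ξ₀ ⤳ p ∧ ∀ h : ξ₀ ⤳ p, ΦL.sec ξ₀ ≠ ΦL.secAt h)
      (fun x => Cyc.c1CapFun δ L (Cyc.divFun δ ξ₀ f) ΦL.sec x) := by
  obtain ⟨φ, rfl⟩ := X.residue_surjective ξ₀ f
  let t : Cyc.secFibre (Coh.structureModule X) ξ₀ :=
    φ • fib (Coh.structureModule X) ((Coh.structureModule X).presheaf.germ ⊤ ξ₀ trivial (1 : Γ(X, ⊤)))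
  have hgen := (AmpleLib.one_genOn (X := X) ⊤).genAt (x := ξ₀) trivial
  have ht : t ≠ 0 := fun h => hf ((CycC1Lib.fib_smul_eq_zero_iff (U := ⊤) hgen φ).1 h)
  have hfun : Cyc.secDivFun δ (Coh.structureModule X) ξ₀ t = Cyc.divFun δ ξ₀ (X.residue ξ₀ φ) :=
    funext fun x => CycC1Lib.secDivFun_eq_divFun hX (AmpleLib.one_genOn (X := X) ⊤) trivial trivial rfl
  obtain ⟨ι, pts, fn, h1, h2, h3, h4, h5⟩ := (comm_point hX ξ₀ hL (structureModule_invertible X)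
    (ΦL.sec_ne_zero ξ₀) ht ΦL (unitFrames X)).neg hX
  refine ⟨ι, pts, fn, h1, h2, h3, fun i => ⟨(h4 i).1, fun h => ((h4 i).2 h).1⟩, fun x => ?_⟩
  rw [← h5 x, hfun]
  have hzero : ∀ α : X → ℤ, Cyc.c1CapFun δ (Coh.structureModule X) α (unitFrames X).sec x = 0 := fun α =>
    finsum_eq_zero_of_forall_eq_zero fun ξ => by rw [secDivFun_one hX, mul_zero]
  show _ = -(Cyc.c1CapFun δ _ _ (unitFrames X).sec x - _)
  rw [hzero, zero_sub, neg_neg]

/-- The cap of a rationally trivial cycle. -/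
theorem cap_family_of_ratEquivZero (hX : Cyc.IsSetup X δ) {L : X.Modules} (hL : PicF.IsInvertible L) {k : ℤ}
    {α : AlgebraicCycle X ℤ} (h0 : Cyc.RatEquivZero δ k α) (ΦL : Frames L) (P : X → Prop)
    (hP : ∀ (ξ p : X) (h : ξ ⤳ p), ΦL.sec ξ ≠ ΦL.secAt h → P p) :
    DivFamily δ (k + 1 - 1) P (fun x => Cyc.c1CapFun δ L ⇑α ΦL.sec x) := by
  classical
  obtain ⟨J, ctr, f, hd, hf, hloc, hsum⟩ := h0
  refine DivFamily.sigma hX ctr (fun _ => (1 : ℤ)) hloc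
    (fun j x => Cyc.c1CapFun δ L (Cyc.divFun δ (ctr j) (f j)) ΦL.sec x) (fun j => ?_) _ fun x => ?_
  · have := div_family hX (ctr j) (hf j) hL ΦL
    rw [hd j] at this
    exact this.mono fun p hp => ⟨hp.1, hP _ p hp.1 (hp.2 hp.1)⟩
  · obtain ⟨U, hU, hxU, hfin⟩ := hloc x
    have hsupp : ∀ (j : J) (ξ : X), ξ ⤳ x → Cyc.divFun δ (ctr j) (f j) ξ ≠ 0 → j ∈ hfin.toFinset := by
      intro j ξ hsp hne
      refine hfin.mem_toFinset.2 ⟨x, specializes_iff_mem_closure.1 (Specializes.trans ?_ hsp), hxU⟩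
      by_contra hn
      exact hne (CycC1Lib.divFun_eq_zero_of_not_specializes hn _)
    rw [finsum_eq_sum_of_support_subset _ (s := hfin.toFinset) fun j hj => ?_]
    · refine c1CapFun_comb hfin.toFinset (fun _ => 1) (fun j => CycPushLib.divCyc hX (ctr j) (hf j)) _ fun ξ hsp => ?_
      simp only [one_mul]
      rw [hsum ξ, finsum_eq_sum_of_support_subset _ (s := hfin.toFinset) fun j hj => hsupp j ξ hsp hj]
      rfl
    · obtain ⟨ξ, hξ⟩ := exists_ne_zero_of_finsum_mem_ne_zero (s := Set.univ)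
        (f := fun ξ => Cyc.divFun δ (ctr j) (f j) ξ * Cyc.secDivFun δ L ξ (ΦL.sec ξ) x)
        (by rw [finsum_mem_univ]; exact right_ne_zero_of_mul hj)
      refine hsupp j ξ ?_ (left_ne_zero_of_mul hξ.2)
      by_contra hn
      exact right_ne_zero_of_mul hξ.2 (CycC1Lib.secDivFun_eq_zero_of_not (fun h => hn h.1) _)

/-- The two iterated caps differ by a family of principal divisors. -/
theorem cap_cap_family (hX : Cyc.IsSetup X δ) {L N : X.Modules} (hL : PicF.IsInvertible L)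
    (hN : PicF.IsInvertible N) {m : ℤ} (α : AlgebraicCycle X ℤ) (hα : α ∈ Cyc.Zk X δ m)
    {v : (ξ : X) → Cyc.secFibre N ξ} (hv : ∀ ξ, v ξ ≠ 0) (ΦL : Frames L) (ΦN : Frames N) (P : X → Prop)
    (hP : ∀ (ξ p : X) (h : ξ ⤳ p), ΦL.sec ξ ≠ ΦL.secAt h → v ξ ≠ ΦN.secAt h → P p) :
    DivFamily δ (m - 1) P (fun x => Cyc.c1CapFun δ N (Cyc.c1CapFun δ L ⇑α ΦL.sec) ΦN.sec x -
      Cyc.c1CapFun δ L (Cyc.c1CapFun δ N ⇑α v) ΦL.sec x) := by
  classical
  haveI := hX.1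
  let J := {ξ : X // α ξ ≠ 0}
  have hloc : ∀ x : X, ∃ U : Set X, IsOpen U ∧ x ∈ U ∧ {j : J | (closure {j.1} ∩ U).Nonempty}.Finite := by
    intro x
    obtain ⟨V, hV, hxV, -⟩ := exists_isAffineOpen_mem_and_subset (X := X) (x := x) (U := ⊤) trivial
    refine ⟨V, V.isOpen, hxV,
      ((CycC1Lib.finite_support_inter_affine α hV).preimage Subtype.val_injective.injOn).subset ?_⟩
    rintro j ⟨z, hz, hzV⟩
    exact ⟨(specializes_iff_mem_closure.2 hz).mem_open V.isOpen hzV, j.2⟩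
  refine DivFamily.sigma hX (fun j : J => j.1) (fun j => α j.1) hloc
    (fun j x => Cyc.c1CapFun δ N (Cyc.secDivFun δ L j.1 (ΦL.sec j.1)) ΦN.sec x -
      Cyc.c1CapFun δ L (Cyc.secDivFun δ N j.1 (v j.1)) ΦL.sec x) (fun j => ?_) _ fun x => ?_
  · have := comm_point hX j.1 hL hN (ΦL.sec_ne_zero j.1) (hv j.1) ΦL ΦN
    rw [show δ j.1 = m from not_not.1 fun hne => j.2 (hα j.1 hne)] at this
    exact this.mono fun p hp => ⟨hp.1, hP _ p hp.1 (hp.2 hp.1).1 (hp.2 hp.1).2⟩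
  · obtain ⟨S, hS⟩ := CycC1Lib.exists_finset_generizations α x
    have key : ∀ {M M' : X.Modules} (hM : PicF.IsInvertible M) (σ : (ξ : X) → Cyc.secFibre M ξ)
        (hσ : ∀ ξ, σ ξ ≠ 0) (τ : (ξ : X) → Cyc.secFibre M' ξ),
        Cyc.c1CapFun δ M' (Cyc.c1CapFun δ M ⇑α σ) τ x =
          ∑ η ∈ S, α η * Cyc.c1CapFun δ M' (Cyc.secDivFun δ M η (σ η)) τ x :=
      fun {M M'} hM σ hσ τ => c1CapFun_comb S (fun η => α η) (fun η => secDivCycAt hX hM η (hσ η)) _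
        fun ξ hsp => CycC1Lib.c1CapFun_eq_sum fun η hne hη => hS η hne (hη.trans hsp)
    rw [key hL ΦL.sec ΦL.sec_ne_zero ΦN.sec, key hN v hv ΦL.sec, ← Finset.sum_sub_distrib,
      finsum_eq_sum_of_support_subset _ (s := S.subtype fun ξ => α ξ ≠ 0) fun j hj => ?_]
    · rw [Finset.sum_subtype_eq_sum_filter (fun ξ => α ξ * (Cyc.c1CapFun δ N (Cyc.secDivFun δ L ξ (ΦL.sec ξ)) ΦN.sec x -
        Cyc.c1CapFun δ L (Cyc.secDivFun δ N ξ (v ξ)) ΦL.sec x)), Finset.sum_filter]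
      refine Finset.sum_congr rfl fun ξ _ => ?_
      split_ifs with hne
      · exact (mul_sub _ _ _).symm
      · rw [not_not.1 hne]
        ring
    · rw [Finset.mem_coe, Finset.mem_subtype]
      refine hS _ j.2 ?_
      by_contra hn
      refine right_ne_zero_of_mul hj ?_
      have hz : ∀ {M M' : X.Modules} (σ : Cyc.secFibre M j.1) (τ : (ξ : X) → Cyc.secFibre M' ξ),
          Cyc.c1CapFun δ M' (Cyc.secDivFun δ M j.1 σ) τ x = 0 := fun σ τ => finsum_eq_zero_of_forall_eq_zero fun ξ => by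
        by_contra hne
        refine hn (Specializes.trans (y := ξ) ?_ ?_)
        · by_contra h1
          exact left_ne_zero_of_mul hne (CycC1Lib.secDivFun_eq_zero_of_not (fun h => h1 h.1) _)
        · by_contra h1
          exact right_ne_zero_of_mul hne (CycC1Lib.secDivFun_eq_zero_of_not (fun h => h1 h.1) _)
      show _ - _ = (0 : ℤ)
      rw [hz, hz, sub_zero]

/-- The cap passes to rational equivalence. -/
theorem c1Cap_ratEquivZero (hX : Cyc.IsSetup X δ) {L : X.Modules} (hL : PicF.IsInvertible L) {k : ℤ}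
    {α : AlgebraicCycle X ℤ} (hα : α ∈ Cyc.Zk X δ (k + 1)) (h0 : Cyc.RatEquivZero δ (k + 1) α)
    {s : (ξ : X) → Cyc.secFibre L ξ} (hs : ∀ ξ, s ξ ≠ 0) {γ : AlgebraicCycle X ℤ}
    (hγ : ⇑γ = Cyc.c1CapFun δ L ⇑α s) : Cyc.RatEquivZero δ k γ := by
  obtain ⟨ΦL⟩ := exists_frames hL
  let γ' := CycC1Lib.capCyc hX hL α ΦL.sec_ne_zero
  have h1 : Cyc.RatEquivZero δ k γ' := by
    refine DivFamily.ratEquivZero (P := fun _ => True) ?_
    have := cap_family_of_ratEquivZero hX hL h0 ΦL (fun _ => True) fun _ _ _ _ => trivial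
    rw [add_sub_cancel_right] at this
    exact this
  exact ratEquivZero_add hX (CycC1Lib.ratEquiv_c1Cap hX hL α hα hs ΦL.sec_ne_zero γ γ' hγ rfl) h1
    fun x => (sub_add_cancel (γ x) (γ' x)).symm

/-- The cap respects rational equivalence of cycles. -/
theorem c1Cap_congr (hX : Cyc.IsSetup X δ) {L : X.Modules} (hL : PicF.IsInvertible L) {k : ℤ}
    {α β : AlgebraicCycle X ℤ} (hα : α ∈ Cyc.Zk X δ (k + 1)) (hβ : β ∈ Cyc.Zk X δ (k + 1))
    (h : Cyc.RatEquiv δ (k + 1) α β) {s t : (ξ : X) → Cyc.secFibre L ξ} (hs : ∀ ξ, s ξ ≠ 0) (ht : ∀ ξ, t ξ ≠ 0)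
    {γ γ' : AlgebraicCycle X ℤ} (hγ : ⇑γ = Cyc.c1CapFun δ L ⇑α s) (hγ' : ⇑γ' = Cyc.c1CapFun δ L ⇑β t) :
    Cyc.RatEquiv δ k γ γ' := by
  classical
  let γs := CycC1Lib.capCyc hX hL β hs
  refine ratEquiv_trans hX (β := γs) ?_ (CycC1Lib.ratEquiv_c1Cap hX hL β hβ hs ht γs γ' rfl hγ')
  refine c1Cap_ratEquivZero hX hL (α := α - β) (fun x hx => by
    show α x - β x = 0
    rw [hα x hx, hβ x hx, sub_zero]) h hs (funext fun x => ?_)
  show γ x - Cyc.c1CapFun δ L ⇑β s x = _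
  rw [hγ]
  obtain ⟨S₁, hS₁⟩ := CycC1Lib.exists_finset_generizations α x
  obtain ⟨S₂, hS₂⟩ := CycC1Lib.exists_finset_generizations β x
  have e1 : ∀ ξ, α ξ ≠ 0 → ξ ⤳ x → ξ ∈ S₁ ∪ S₂ := fun ξ h h' => Finset.mem_union_left _ (hS₁ ξ h h')
  have e2 : ∀ ξ, β ξ ≠ 0 → ξ ⤳ x → ξ ∈ S₁ ∪ S₂ := fun ξ h h' => Finset.mem_union_right _ (hS₂ ξ h h')
  have e3 : ∀ ξ, (α - β) ξ ≠ 0 → ξ ⤳ x → ξ ∈ S₁ ∪ S₂ := fun ξ h h' => by
    by_cases hz : α ξ = 0
    · refine e2 ξ (fun h0 => h ?_) h'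
      show α ξ - β ξ = 0
      rw [hz, h0, sub_zero]
    · exact e1 ξ hz h'
  rw [CycC1Lib.c1CapFun_eq_sum e1, CycC1Lib.c1CapFun_eq_sum e2, CycC1Lib.c1CapFun_eq_sum e3, ← Finset.sum_sub_distrib]
  exact Finset.sum_congr rfl fun ξ _ => (sub_mul (α ξ) (β ξ) _).symm

end CycCommLib

end
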