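import Mathlib
import Groth.Prelude.Def_C1
import Groth.Agent.CycCommLib.Main
import Groth.Agent.CycGysLib.Basic

/-!
# Gysin maps and caps
-/

set_option autoImplicit false
set_option linter.style.haveILetI false
set_option linter.unusedSectionVars false

universe u

open AlgebraicGeometry CategoryTheory CategoryTheory.Limits IsLocalRing Opposite

noncomputable section

namespace CycCommLib

open CycC1Lib (fib pbFib)

variable {X D : Scheme.{u}} {δ : X → ℤ}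

theorem capCyc_mem_Zk (hX : Cyc.IsSetup X δ) {L : X.Modules} (hL : PicF.IsInvertible L) {m : ℤ}
    {α : AlgebraicCycle X ℤ} (hα : α ∈ Cyc.Zk X δ (m + 1)) {s : (ξ : X) → Cyc.secFibre L ξ} (hs : ∀ ξ, s ξ ≠ 0) :
    CycC1Lib.capCyc hX hL α hs ∈ Cyc.Zk X δ m := fun x hx => by
  show ∑ᶠ ξ : X, α ξ * Cyc.secDivFun δ L ξ (s ξ) x = 0
  refine finsum_eq_zero_of_forall_eq_zero fun ξ => ?_
  by_cases h : δ ξ = m + 1
  · rw [CycC1Lib.secDivFun_eq_zero_of_not (fun h' => hx (by omega)), mul_zero]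
  · rw [hα ξ h, zero_mul]

theorem restrictCyc_mem_Zk (i : D ⟶ X) [IsClosedImmersion i] {m : ℤ} {α : AlgebraicCycle X ℤ}
    (hα : α ∈ Cyc.Zk X δ m) : CycGysLib.restrictCyc i α ∈ Cyc.Zk D (fun d => δ (i d)) m := fun d hd => hα (i d) hd

theorem c1CapFun_sub (hX : Cyc.IsSetup X δ) {L : X.Modules} (α β : AlgebraicCycle X ℤ)
    (s : (ξ : X) → Cyc.secFibre L ξ) (x : X) :
    Cyc.c1CapFun δ L ⇑(α - β) s x = Cyc.c1CapFun δ L ⇑α s x - Cyc.c1CapFun δ L ⇑β s x := by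
  have h := c1CapFun_comb (δ := δ) (L := L) (v := s) (x := x) (Finset.univ : Finset Bool)
    (fun b => if b then (1 : ℤ) else -1) (fun b => if b then α else β) ⇑(α - β)
    (fun ξ _ => by
      rw [Fintype.sum_bool]
      show α ξ - β ξ = _
      simp only [if_true, Bool.false_eq_true, if_false]
      ring)
  rw [h, Fintype.sum_bool]
  simp only [if_true, Bool.false_eq_true, if_false]
  ring

variable (hX : Cyc.IsSetup X δ) {L : X.Modules} (hL : PicF.IsInvertible L) {s : L.presheaf.obj (Opposite.op ⊤)}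
  {i : D ⟶ X} [IsClosedImmersion i] (hD : Cyc.IsZeroSchemeOf i L s)

theorem mem_range_of_ne {ΦL : Frames L}
    (hΦ : ∀ (p : X), p ∉ Set.range i → ∀ {ξ : X} (h : ξ ⤳ p), ΦL.secAt h = fib L (L.presheaf.germ ⊤ ξ trivial s))
    (ξ p : X) (h : ξ ⤳ p) (hne : ΦL.sec ξ ≠ ΦL.secAt h) : p ∈ Set.range i := by
  by_contra hp
  have hξ : ξ ∉ Set.range i := fun hξ => hp (h.mem_closed i.isClosedEmbedding.isClosed_range hξ)
  exact hne ((hΦ ξ hξ specializes_rfl).trans (hΦ p hp h).symm)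

include hX in
theorem cap_frames_eq_zero {ΦL : Frames L}
    (hΦ : ∀ (p : X), p ∉ Set.range i → ∀ {ξ : X} (h : ξ ⤳ p), ΦL.secAt h = fib L (L.presheaf.germ ⊤ ξ trivial s))
    (α : X → ℤ) {x : X} (hx : x ∉ Set.range i) : Cyc.c1CapFun δ L α ΦL.sec x = 0 := by
  refine finsum_eq_zero_of_forall_eq_zero fun ξ => ?_
  by_cases h : ξ ⤳ x ∧ δ x + 1 = δ ξ
  swap
  · rw [CycC1Lib.secDivFun_eq_zero_of_not h, mul_zero]
  have hξ : ξ ∉ Set.range i := fun hξ => hx (h.1.mem_closed i.isClosedEmbedding.isClosed_range hξ)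
  have hs : ΦL.sec ξ = (1 : X.presheaf.stalk ξ) • fib L (L.presheaf.germ (ΦL.U x) ξ
      (h.1.mem_open (ΦL.U x).isOpen (ΦL.mem x)) (ΦL.e x)) :=
    ((hΦ ξ hξ specializes_rfl).trans (hΦ x hx h.1).symm).trans (one_smul _ _).symm
  rw [CycC1Lib.secDivFun_eq_divFun hX (ΦL.gen x) (ΦL.mem x) _ hs, map_one, Cyc.divFun, dif_pos h]
  haveI := hX.1
  have h1 := CycDivLib.ordAt_mul h.1 (CycPushLib.dimBetween_le_one_of_drop hX h.1 h.2)
    (one_ne_zero (α := X.residueField ξ)) one_ne_zero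
  rw [mul_one] at h1
  rw [show Cyc.ordAt x ξ h.1 (1 : X.residueField ξ) = 0 by omega, mul_zero]

include hX hL hD

theorem gysin_frames {ΦL : Frames L}
    (hΦ : ∀ (p : X), p ∉ Set.range i → ∀ {ξ : X} (h : ξ ⤳ p), ΦL.secAt h = fib L (L.presheaf.germ ⊤ ξ trivial s))
    {k : ℤ} (α : AlgebraicCycle X ℤ) (hα : α ∈ Cyc.Zk X δ (k + 1)) {w : (ξ : X) → Cyc.secFibre L ξ}
    (hw : ∀ ξ, w ξ ≠ 0) (γ : AlgebraicCycle D ℤ)
    (hγ : ∀ d, γ d = Cyc.c1CapFun δ L ⇑α (Cyc.gysinChoice L s w) (i d)) :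
    Cyc.RatEquiv (fun d => δ (i d)) k γ (CycGysLib.restrictCyc i (CycC1Lib.capCyc hX hL α ΦL.sec_ne_zero)) :=
  CycGysLib.ratEquiv_restrict_c1Cap hX hL i α hα (CycGysLib.gysinChoice_ne_zero s hw) ΦL.sec_ne_zero
    (fun ξ hξ d => by
      rw [CycGysLib.gysinChoice_of_not_mem hD w hξ, show ΦL.sec ξ = fib L (L.presheaf.germ ⊤ ξ trivial s) from
        hΦ ξ hξ specializes_rfl]) γ _ hγ fun _ => rfl

/-- The Gysin map passes to rational equivalence. -/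
theorem gysin_ratEquivZero {k : ℤ} {α : AlgebraicCycle X ℤ} (hα : α ∈ Cyc.Zk X δ (k + 1))
    (h0 : Cyc.RatEquivZero δ (k + 1) α) {w : (ξ : X) → Cyc.secFibre L ξ} (hw : ∀ ξ, w ξ ≠ 0)
    {γ : AlgebraicCycle D ℤ} (hγ : ∀ d, γ d = Cyc.c1CapFun δ L ⇑α (Cyc.gysinChoice L s w) (i d)) :
    Cyc.RatEquivZero (fun d => δ (i d)) k γ := by
  obtain ⟨ΦL, hΦ⟩ := exists_frames_of_section hL i hD
  have hsD := (CycPushLib.setup_of_closedImmersion i hX).1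
  let γ₀ := CycGysLib.restrictCyc i (CycC1Lib.capCyc hX hL α ΦL.sec_ne_zero)
  have hfam := cap_family_of_ratEquivZero hX hL h0 ΦL (fun p => p ∈ Set.range i) (mem_range_of_ne hΦ)
  rw [add_sub_cancel_right] at hfam
  exact ratEquivZero_add hsD (gysin_frames hX hL hD hΦ α hα hw γ hγ)
    (DivFamily.restrict hX i hfam (γ := γ₀) fun _ => rfl) fun d => (sub_add_cancel (γ d) (γ₀ d)).symm

/-- The Gysin map respects rational equivalence of cycles. -/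
theorem gysin_congr {k : ℤ} {α β : AlgebraicCycle X ℤ} (hα : α ∈ Cyc.Zk X δ (k + 1))
    (hβ : β ∈ Cyc.Zk X δ (k + 1)) (h : Cyc.RatEquiv δ (k + 1) α β) {w : (ξ : X) → Cyc.secFibre L ξ}
    (hw : ∀ ξ, w ξ ≠ 0) {γ γ' : AlgebraicCycle D ℤ}
    (hγ : ∀ d, γ d = Cyc.c1CapFun δ L ⇑α (Cyc.gysinChoice L s w) (i d))
    (hγ' : ∀ d, γ' d = Cyc.c1CapFun δ L ⇑β (Cyc.gysinChoice L s w) (i d)) :
    Cyc.RatEquiv (fun d => δ (i d)) k γ γ' :=
  gysin_ratEquivZero hX hL hD (α := α - β) (fun x hx => by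
    show α x - β x = 0
    rw [hα x hx, hβ x hx, sub_zero]) h hw fun d => by
    show γ d - γ' d = _
    rw [hγ, hγ', c1CapFun_sub hX]

/-- The Gysin map commutes with the cap. -/
theorem gysin_cap {N : X.Modules} (hN : PicF.IsInvertible N) {k : ℤ} (α : AlgebraicCycle X ℤ)
    (hα : α ∈ Cyc.Zk X δ k) {w : (ξ : X) → Cyc.secFibre L ξ} (hw : ∀ ξ, w ξ ≠ 0)
    {v : (ξ : X) → Cyc.secFibre N ξ} (hv : ∀ ξ, v ξ ≠ 0)
    {t : (d : D) → Cyc.secFibre ((Scheme.Modules.pullback i).obj N) d} (ht : ∀ d, t d ≠ 0)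
    (β : AlgebraicCycle X ℤ) (hβ : ⇑β = Cyc.c1CapFun δ N ⇑α v) (γ : D → ℤ)
    (hγ : γ = fun d => Cyc.c1CapFun δ L ⇑α (Cyc.gysinChoice L s w) (i d)) (ζ₁ ζ₂ : AlgebraicCycle D ℤ)
    (h₁ : ∀ d, ζ₁ d = Cyc.c1CapFun δ L ⇑β (Cyc.gysinChoice L s w) (i d))
    (h₂ : ⇑ζ₂ = Cyc.c1CapFun (fun d => δ (i d)) ((Scheme.Modules.pullback i).obj N) γ t) :
    Cyc.RatEquiv (fun d => δ (i d)) (k - 2) ζ₁ ζ₂ := by
  obtain ⟨ΦL, hΦ⟩ := exists_frames_of_section hL i hD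
  obtain ⟨ΦN⟩ := exists_frames hN
  have hsD := (CycPushLib.setup_of_closedImmersion i hX).1
  have hα' : α ∈ Cyc.Zk X δ (k - 1 + 1) := by rwa [sub_add_cancel]
  have hk : k - 2 + 1 = k - 1 := by ring
  have hβ' : β ∈ Cyc.Zk X δ (k - 2 + 1) := by
    rw [hk]
    intro x hx
    rw [hβ]
    exact capCyc_mem_Zk hX hN hα' hv x hx
  let C := CycC1Lib.capCyc hX hL α ΦL.sec_ne_zero
  let A := CycGysLib.restrictCyc i (CycC1Lib.capCyc hX hL β ΦL.sec_ne_zero)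
  let B := CycGysLib.restrictCyc i (CycC1Lib.capCyc hX hN C ΦN.sec_ne_zero)
  have hfam := (cap_cap_family hX hL hN α hα hv ΦL ΦN (fun p => p ∈ Set.range i)
    (fun ξ p h hne _ => mem_range_of_ne hΦ ξ p h hne)).neg hX
  rw [← hk] at hfam
  have hAB : Cyc.RatEquiv (fun d => δ (i d)) (k - 2) A B := DivFamily.restrict hX i hfam fun d => by
    show Cyc.c1CapFun δ L ⇑β ΦL.sec (i d) - _ = _
    rw [hβ]
    exact (neg_sub _ _).symm
  refine ratEquiv_trans hsD (gysin_frames hX hL hD hΦ β hβ' hw ζ₁ h₁) (ratEquiv_trans hsD hAB ?_)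
  let γ₀ := CycGysLib.restrictCyc i C
  let γc := CycGysLib.restrictCyc i (CycC1Lib.capCyc hX hL α (CycGysLib.gysinChoice_ne_zero s hw))
  have hzk : ∀ {σ : (ξ : X) → Cyc.secFibre L ξ} (hσ : ∀ ξ, σ ξ ≠ 0),
      CycGysLib.restrictCyc i (CycC1Lib.capCyc hX hL α hσ) ∈ Cyc.Zk D (fun d => δ (i d)) (k - 2 + 1) := fun hσ => by
    rw [hk]
    exact restrictCyc_mem_Zk i (capCyc_mem_Zk hX hL hα' hσ)
  have hrel : Cyc.RatEquiv (fun d => δ (i d)) (k - 2 + 1) γ₀ γc := by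
    rw [hk]
    exact ratEquiv_symm hsD (gysin_frames hX hL hD hΦ α hα' hw γc fun _ => rfl)
  refine c1Cap_congr hsD (AmpleDevLib.isInvertible_pb i hN) (hzk _) (hzk _) hrel
    (fun d => CycC1Lib.pbFib_ne_zero i hN (ΦN.sec_ne_zero (i d))) ht ?_ ?_
  · funext d
    exact CycGysLib.c1CapFun_restrict i hX hN ⇑C (fun x hx => cap_frames_eq_zero hX hΦ ⇑α hx) ΦN.sec_ne_zero d
  · rw [h₂, hγ]
    rfl

end CycCommLib

end
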