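import Mathlib
import Groth.Prelude.Def_C1
import Groth.Agent.CycCommLib.Gysin

/-!
# Iterated Gysin maps
-/

set_option autoImplicit false
set_option linter.style.haveILetI false
set_option linter.unusedSectionVars false

universe u

open AlgebraicGeometry CategoryTheory CategoryTheory.Limits IsLocalRing Opposite

noncomputable section

namespace CycCommLib

open CycC1Lib (fib pbFib)

variable {X D D' Z : Scheme.{u}} {δ : X → ℤ}

theorem isZeroSchemeOf_iso_comp {j : Z ⟶ X} {L : X.Modules} {σ : L.presheaf.obj (Opposite.op ⊤)}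
    (h : Cyc.IsZeroSchemeOf j L σ) {Z' : Scheme.{u}} (e : Z' ≅ Z) : Cyc.IsZeroSchemeOf (e.hom ≫ j) L σ := by
  refine ⟨?_, fun z => ?_⟩
  · rw [← h.1]
    ext x
    refine ⟨fun ⟨z, hz⟩ => ⟨e.hom z, (Scheme.Hom.comp_apply e.hom j z).symm.trans hz⟩, fun ⟨z, hz⟩ => ?_⟩
    obtain ⟨z', rfl⟩ : z ∈ Set.range e.hom := ⟨e.inv z, by rw [← Scheme.Hom.comp_apply, e.inv_hom_id]; rfl⟩
    exact ⟨z', (Scheme.Hom.comp_apply e.hom j z').trans hz⟩
  · obtain ⟨t, f, ht, hst, hker⟩ := h.2 (e.hom z)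
    refine ⟨t, f, ht, hst, ?_⟩
    refine Eq.trans ?_ hker
    rw [Scheme.Hom.stalkMap_comp]
    exact RingHom.ker_comp_of_injective _ (ConcreteCategory.bijective_of_isIso (e.hom.stalkMap z)).1

/-- One side of the iterated Gysin map, computed in frames on `X`. -/
theorem gysin_side (hX : Cyc.IsSetup X δ) {L : X.Modules} (hL : PicF.IsInvertible L)
    {s : L.presheaf.obj (Opposite.op ⊤)} {i : D ⟶ X} [IsClosedImmersion i] (hD : Cyc.IsZeroSchemeOf i L s)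
    {ΦL : Frames L}
    (hΦ : ∀ (p : X), p ∉ Set.range i → ∀ {ξ : X} (h : ξ ⤳ p), ΦL.secAt h = fib L (L.presheaf.germ ⊤ ξ trivial s))
    {N : X.Modules} (hN : PicF.IsInvertible N) {s' : N.presheaf.obj (Opposite.op ⊤)} {i' : D' ⟶ X}
    [IsClosedImmersion i'] (hD' : Cyc.IsZeroSchemeOf i' N s') {ΦN : Frames N}
    (hΦ' : ∀ (p : X), p ∉ Set.range i' → ∀ {ξ : X} (h : ξ ⤳ p), ΦN.secAt h = fib N (N.presheaf.germ ⊤ ξ trivial s'))
    {j : Z ⟶ D} [IsClosedImmersion j] {σ : ((Scheme.Modules.pullback i).obj N).presheaf.obj (Opposite.op ⊤)}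
    (hσ : Cyc.IsZeroSchemeOf j ((Scheme.Modules.pullback i).obj N) σ)
    (e : pullback i i' ≅ Z) (he : e.hom ≫ j = pullback.fst i i')
    {k : ℤ} (α : AlgebraicCycle X ℤ) (hα : α ∈ Cyc.Zk X δ k) {w : (ξ : X) → Cyc.secFibre L ξ} (hw : ∀ ξ, w ξ ≠ 0)
    {w₁ : (d : D) → Cyc.secFibre ((Scheme.Modules.pullback i).obj N) d} (hw₁ : ∀ d, w₁ d ≠ 0)
    (γ : D → ℤ) (hγ : γ = fun d => Cyc.c1CapFun δ L ⇑α (Cyc.gysinChoice L s w) (i d))
    (ζ ζ' : AlgebraicCycle Z ℤ)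
    (h₁ : ∀ z, ζ z = Cyc.c1CapFun (fun d => δ (i d)) ((Scheme.Modules.pullback i).obj N) γ
      (Cyc.gysinChoice ((Scheme.Modules.pullback i).obj N) σ w₁) (j z))
    (h₂ : ∀ z, ζ' z = Cyc.c1CapFun δ N (Cyc.c1CapFun δ L ⇑α ΦL.sec) ΦN.sec (i (j z))) :
    Cyc.RatEquiv (fun z => δ (i (j z))) (k - 2) ζ ζ' := by
  have hsD := (CycPushLib.setup_of_closedImmersion i hX).1
  have hsZ := (CycPushLib.setup_of_closedImmersion j hsD).1
  have hN' : PicF.IsInvertible ((Scheme.Modules.pullback i).obj N) := AmpleDevLib.isInvertible_pb i hN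
  have hα' : α ∈ Cyc.Zk X δ (k - 1 + 1) := by rwa [sub_add_cancel]
  have hk : k - 2 + 1 = k - 1 := by ring
  let C := CycC1Lib.capCyc hX hL α ΦL.sec_ne_zero
  let γ₀ := CycGysLib.restrictCyc i C
  let γc := CycGysLib.restrictCyc i (CycC1Lib.capCyc hX hL α (CycGysLib.gysinChoice_ne_zero s hw))
  have hzk : ∀ {τ : (ξ : X) → Cyc.secFibre L ξ} (hτ : ∀ ξ, τ ξ ≠ 0),
      CycGysLib.restrictCyc i (CycC1Lib.capCyc hX hL α hτ) ∈ Cyc.Zk D (fun d => δ (i d)) (k - 2 + 1) := fun hτ => by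
    rw [hk]
    exact restrictCyc_mem_Zk i (capCyc_mem_Zk hX hL hα' hτ)
  have hrel : Cyc.RatEquiv (fun d => δ (i d)) (k - 2 + 1) γc γ₀ := by
    rw [hk]
    exact gysin_frames hX hL hD hΦ α hα' hw γc fun _ => rfl
  let g₀ := CycGysLib.restrictCyc j
    (CycC1Lib.capCyc hsD hN' γ₀ (CycGysLib.gysinChoice_ne_zero σ hw₁))
  refine ratEquiv_trans hsZ (β := g₀)
    (gysin_congr hsD hN' hσ (hzk _) (hzk _) hrel hw₁ (fun z => by rw [h₁, hγ]; rfl) fun _ => rfl) ?_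
  have hσ' : Cyc.IsZeroSchemeOf (pullback.fst i i') ((Scheme.Modules.pullback i).obj N) σ :=
    he ▸ isZeroSchemeOf_iso_comp hσ e
  have hrange : Set.range j = Set.range (pullback.fst i i') := hσ.1.trans hσ'.1.symm
  refine CycGysLib.ratEquiv_restrict_c1Cap hsD hN' j γ₀ (hzk _) (CycGysLib.gysinChoice_ne_zero σ hw₁)
    (fun d => CycC1Lib.pbFib_ne_zero i hN (ΦN.sec_ne_zero (i d))) ?_ g₀ ζ' (fun _ => rfl) fun z => ?_
  · intro ξ hξ z
    rw [hrange] at hξ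
    have hout : i ξ ∉ Set.range i' := fun h => hξ (by rw [Scheme.Pullback.range_fst]; exact h)
    have h := CycGysLib.secDivFun_gysinChoice_pullback hsD i hN hN' hD' hσ' ΦN.sec w₁ hξ (j z)
    rw [CycGysLib.gysinChoice_of_not_mem hD' ΦN.sec hout, ← hΦ' (i ξ) hout specializes_rfl] at h
    exact h.symm
  · rw [h₂, CycGysLib.c1CapFun_restrict i hX hN _ (fun x hx => cap_frames_eq_zero hX hΦ ⇑α hx) ΦN.sec_ne_zero]
    rfl

/-- The Gysin maps of two sections commute. -/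
theorem gysin_gysin (hX : Cyc.IsSetup X δ) {L L' : X.Modules} (hL : PicF.IsInvertible L) (hL' : PicF.IsInvertible L')
    {s : L.presheaf.obj (Opposite.op ⊤)} {s' : L'.presheaf.obj (Opposite.op ⊤)} {i : D ⟶ X} {i' : D' ⟶ X}
    [IsClosedImmersion i] [IsClosedImmersion i'] (hD : Cyc.IsZeroSchemeOf i L s) (hD' : Cyc.IsZeroSchemeOf i' L' s')
    {σ' : ((Scheme.Modules.pullback i).obj L').presheaf.obj (Opposite.op ⊤)}
    (hσ' : Cyc.IsZeroSchemeOf (pullback.fst i i') ((Scheme.Modules.pullback i).obj L') σ')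
    {σ : ((Scheme.Modules.pullback i').obj L).presheaf.obj (Opposite.op ⊤)}
    (hσ : Cyc.IsZeroSchemeOf (pullback.snd i i') ((Scheme.Modules.pullback i').obj L) σ)
    {k : ℤ} (α : AlgebraicCycle X ℤ) (hα : α ∈ Cyc.Zk X δ k) {w : (ξ : X) → Cyc.secFibre L ξ} (hw : ∀ ξ, w ξ ≠ 0)
    {w' : (ξ : X) → Cyc.secFibre L' ξ} (hw' : ∀ ξ, w' ξ ≠ 0)
    {w₁ : (d : D) → Cyc.secFibre ((Scheme.Modules.pullback i).obj L') d} (hw₁ : ∀ d, w₁ d ≠ 0)
    {w₂ : (d : D') → Cyc.secFibre ((Scheme.Modules.pullback i').obj L) d} (hw₂ : ∀ d, w₂ d ≠ 0)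
    (γ : D → ℤ) (hγ : γ = fun d => Cyc.c1CapFun δ L ⇑α (Cyc.gysinChoice L s w) (i d))
    (γ' : D' → ℤ) (hγ' : γ' = fun d => Cyc.c1CapFun δ L' ⇑α (Cyc.gysinChoice L' s' w') (i' d))
    (ζ₁ ζ₂ : AlgebraicCycle (pullback i i') ℤ)
    (h₁ : ∀ z, ζ₁ z = Cyc.c1CapFun (fun d => δ (i d)) ((Scheme.Modules.pullback i).obj L') γ
      (Cyc.gysinChoice ((Scheme.Modules.pullback i).obj L') σ' w₁) (pullback.fst i i' z))
    (h₂ : ∀ z, ζ₂ z = Cyc.c1CapFun (fun d => δ (i' d)) ((Scheme.Modules.pullback i').obj L) γ'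
      (Cyc.gysinChoice ((Scheme.Modules.pullback i').obj L) σ w₂) (pullback.snd i i' z)) :
    Cyc.RatEquiv (fun z => δ (i (pullback.fst i i' z))) (k - 2) ζ₁ ζ₂ := by
  obtain ⟨ΦL, hΦ⟩ := exists_frames_of_section hL i hD
  obtain ⟨ΦN, hΦ'⟩ := exists_frames_of_section hL' i' hD'
  have hcond : ∀ z, i (pullback.fst i i' z) = i' (pullback.snd i i' z) := fun z => by
    rw [← Scheme.Hom.comp_apply, pullback.condition, Scheme.Hom.comp_apply]
  let q : pullback i i' ⟶ X := pullback.fst i i' ≫ i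
  obtain ⟨hsZ, -⟩ := CycPushLib.setup_of_closedImmersion q hX
  let C := CycC1Lib.capCyc hX hL α ΦL.sec_ne_zero
  let C' := CycC1Lib.capCyc hX hL' α ΦN.sec_ne_zero
  let A := CycGysLib.restrictCyc q (CycC1Lib.capCyc hX hL' C ΦN.sec_ne_zero)
  let B := CycGysLib.restrictCyc q (CycC1Lib.capCyc hX hL C' ΦL.sec_ne_zero)
  have hfam := cap_cap_family hX hL hL' α hα ΦN.sec_ne_zero ΦL ΦN (fun p => p ∈ Set.range q)
    (fun ξ p h hne hne' => by
      obtain ⟨d, rfl⟩ := mem_range_of_ne hΦ ξ p h hne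
      obtain ⟨d', hd'⟩ := mem_range_of_ne hΦ' ξ (i d) h hne'
      obtain ⟨z, hz⟩ : d ∈ Set.range (pullback.fst i i') := by
        rw [Scheme.Pullback.range_fst]
        exact ⟨d', hd'⟩
      exact ⟨z, (Scheme.Hom.comp_apply (pullback.fst i i') i z).trans (congrArg i hz)⟩)
  rw [show k - 1 = k - 2 + 1 by ring] at hfam
  have hAB : Cyc.RatEquiv (fun z => δ (q z)) (k - 2) A B := DivFamily.restrict hX q hfam fun _ => rfl
  have e₁ := gysin_side hX hL hD hΦ hL' hD' hΦ' hσ' (Iso.refl _) (Category.id_comp _) α hα hw hw₁ γ hγ ζ₁ A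
    h₁ fun _ => rfl
  have e₂ := gysin_side hX hL' hD' hΦ' hL hD hΦ hσ (pullbackSymmetry i' i) (pullbackSymmetry_hom_comp_snd i' i)
    α hα hw' hw₂ γ' hγ' ζ₂ B h₂ fun z => congrArg (Cyc.c1CapFun δ L (⇑C') ΦL.sec) (hcond z)
  have hδ : (fun z => δ (i' (pullback.snd i i' z))) = fun z => δ (i (pullback.fst i i' z)) :=
    funext fun z => congrArg δ (hcond z).symm
  rw [hδ] at e₂
  exact ratEquiv_trans (δ := fun z => δ (q z)) hsZ e₁ (ratEquiv_trans (δ := fun z => δ (q z)) hsZ hAB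
    (ratEquiv_symm (δ := fun z => δ (q z)) hsZ e₂))

end CycCommLib

end
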